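import Groth.Agent.Lib.PicFin14.Ideal
import Groth.Agent.Lib.RatGrp14.Base
import Groth.Agent.Lib.RegLoc.UFD
import Groth.Agent.Lib.SmoothReg17.Basic
import Mathlib.RingTheory.Polynomial.UniqueFactorization
import Mathlib.RingTheory.TensorProduct.MvPolynomial
import Mathlib.RingTheory.Ideal.Quotient.Operations

/-!
# Class groups of connected affine groups and of their squares are generated by few primes
-/

set_option autoImplicit false
set_option linter.style.haveILetI false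
set_option backward.isDefEq.respectTransparency false
set_option backward.isDefEq.respectTransparency.types false

universe u

open scoped TensorProduct

namespace Groth.Agent.PicFin14

variable {k : Type u} [Field k]

theorem awayMap_localization {A : Type u} [CommRing A] [IsDomain A] {x : A} (hx : x ≠ 0) :
    AwayMap (algebraMap A (Localization.Away x)) x where
  injective := IsLocalization.injective _ (powers_le_nonZeroDivisors_of_noZeroDivisors hx)
  unit := IsLocalization.map_units _ (⟨x, Submonoid.mem_powers x⟩ : Submonoid.powers x)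
  surj c := by
    obtain ⟨⟨a, ⟨_, n, rfl⟩⟩, h⟩ := IsLocalization.surj (Submonoid.powers x) c
    exact ⟨n, a, by rw [← map_pow]; exact h⟩

theorem AwayMap.comp_equiv {A B C : Type u} [CommRing A] [CommRing B] [CommRing C] {φ : A →+* B} {x : A}
    (h : AwayMap φ x) (e : B ≃+* C) : AwayMap (e.toRingHom.comp φ) x where
  injective := e.injective.comp h.injective
  unit := h.unit.map e
  surj c := by
    obtain ⟨n, r, hr⟩ := h.surj (e.symm c)
    exact ⟨n, r, by simpa using congrArg e hr⟩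

theorem AwayMap.equiv_comp {A B C : Type u} [CommRing A] [CommRing B] [CommRing C] {φ : A →+* B} {x : A}
    (h : AwayMap φ x) (e : C ≃+* A) : AwayMap (φ.comp e.toRingHom) (e.symm x) where
  injective := h.injective.comp e.injective
  unit := by simpa using h.unit
  surj c := by
    obtain ⟨n, r, hr⟩ := h.surj c
    exact ⟨n, e.symm r, by simpa using hr⟩

theorem AwayMap.tensor {A₁ A₂ C₁ C₂ : Type u} [CommRing A₁] [CommRing A₂] [CommRing C₁] [CommRing C₂]
    [Algebra k A₁] [Algebra k A₂] [Algebra k C₁] [Algebra k C₂] {φ₁ : A₁ →ₐ[k] C₁} {φ₂ : A₂ →ₐ[k] C₂}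
    {x₁ : A₁} {x₂ : A₂} (h₁ : AwayMap (φ₁ : A₁ →+* C₁) x₁) (h₂ : AwayMap (φ₂ : A₂ →+* C₂) x₂) :
    AwayMap (Algebra.TensorProduct.map φ₁ φ₂ : A₁ ⊗[k] A₂ →+* C₁ ⊗[k] C₂) (x₁ ⊗ₜ x₂) where
  injective := TensorProduct.map_injective_of_flat_flat φ₁.toLinearMap φ₂.toLinearMap h₁.injective h₂.injective
  unit := by
    show IsUnit (φ₁ x₁ ⊗ₜ[k] φ₂ x₂)
    rw [show φ₁ x₁ ⊗ₜ[k] φ₂ x₂ = (φ₁ x₁ ⊗ₜ[k] (1 : C₂)) * ((1 : C₁) ⊗ₜ[k] φ₂ x₂) by
      rw [Algebra.TensorProduct.tmul_mul_tmul, mul_one, one_mul]]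
    exact (h₁.unit.map (Algebra.TensorProduct.includeLeft : C₁ →ₐ[k] C₁ ⊗[k] C₂)).mul
      (h₂.unit.map (Algebra.TensorProduct.includeRight : C₂ →ₐ[k] C₁ ⊗[k] C₂))
  surj c := by
    induction c with
    | zero => exact ⟨0, 0, by simp⟩
    | tmul a b =>
      obtain ⟨n, r, hr⟩ := h₁.surj a
      obtain ⟨m, s, hs⟩ := h₂.surj b
      refine ⟨n + m, (r * x₁ ^ m) ⊗ₜ (s * x₂ ^ n), ?_⟩
      show a ⊗ₜ[k] b * (φ₁ x₁ ⊗ₜ[k] φ₂ x₂) ^ (n + m) = φ₁ (r * x₁ ^ m) ⊗ₜ[k] φ₂ (s * x₂ ^ n)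
      rw [Algebra.TensorProduct.tmul_pow, Algebra.TensorProduct.tmul_mul_tmul, map_mul, map_mul, map_pow, map_pow,
        show φ₁ r = a * φ₁ x₁ ^ n from hr.symm, show φ₂ s = b * φ₂ x₂ ^ m from hs.symm, pow_add, pow_add]
      congr 1 <;> ring
    | add a b ha hb =>
      obtain ⟨n, r, hr⟩ := ha
      obtain ⟨m, s, hs⟩ := hb
      refine ⟨n + m, r * (x₁ ⊗ₜ x₂) ^ m + s * (x₁ ⊗ₜ x₂) ^ n, ?_⟩
      rw [map_add, map_mul, map_mul, map_pow, map_pow, ← hr, ← hs]
      ring

theorem ufd_atPrime (R : Type u) [CommRing R] [Algebra k R] [Algebra.Smooth k R] (m : Ideal R) [m.IsPrime] :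
    UniqueFactorizationMonoid (Localization.AtPrime m) := by
  haveI := SmoothReg17.isRegularLocalRing_of_smooth (algebraMap k R) (RingHom.smooth_algebraMap.2 ‹_›) m
  exact RegLoc.ufd_of_isRegularLocalRing _

/-- The minimal primes over a split element of a tensor square come from the factors. -/
theorem exists_eq_map_of_minimalPrime [IsAlgClosed k] {A : Type u} [CommRing A] [Algebra k A] [IsDomain A]
    {x : A} {Q : Ideal (A ⊗[k] A)} (hQ : Q ∈ (Ideal.span {x ⊗ₜ[k] x}).minimalPrimes) :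
    ∃ p ∈ (Ideal.span {x}).minimalPrimes, Q = p.map (Algebra.TensorProduct.includeLeft : A →ₐ[k] A ⊗[k] A) ∨
      Q = p.map (Algebra.TensorProduct.includeRight : A →ₐ[k] A ⊗[k] A) := by
  haveI := hQ.1.1
  have key : ∀ (f : A →ₐ[k] A ⊗[k] A), (∀ p : Ideal A, p.IsPrime → (p.map f).IsPrime) →
      (x ⊗ₜ[k] x) ∈ Ideal.span {f x} → f x ∈ Q → ∃ p ∈ (Ideal.span {x}).minimalPrimes, Q = p.map f := by
    intro f hf hdvd hx
    obtain ⟨p, hp, hle⟩ := Ideal.exists_minimalPrimes_le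
      (I := Ideal.span {x}) ((Ideal.span_singleton_le_iff_mem (Q.comap f)).2 hx)
    refine ⟨p, hp, le_antisymm (hQ.2 ⟨hf p hp.1.1, ?_⟩ (Ideal.map_le_iff_le_comap.2 hle)) (Ideal.map_le_iff_le_comap.2 hle)⟩
    rw [Ideal.span_singleton_le_iff_mem]
    refine (Ideal.span_singleton_le_iff_mem _).2 ?_ hdvd
    exact Ideal.mem_map_of_mem f (hp.1.2 (Ideal.mem_span_singleton_self x))
  have hxx : (Algebra.TensorProduct.includeLeft : A →ₐ[k] A ⊗[k] A) x *
      (Algebra.TensorProduct.includeRight : A →ₐ[k] A ⊗[k] A) x = x ⊗ₜ[k] x := by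
    simp
  have hmem : (Algebra.TensorProduct.includeLeft : A →ₐ[k] A ⊗[k] A) x *
      (Algebra.TensorProduct.includeRight : A →ₐ[k] A ⊗[k] A) x ∈ Q :=
    hxx ▸ hQ.1.2 (Ideal.mem_span_singleton_self _)
  rcases Ideal.IsPrime.mem_or_mem ‹_› hmem with h | h
  · obtain ⟨p, hp, e⟩ := key Algebra.TensorProduct.includeLeft (fun p hp => by
      haveI := GeomIrr.isDomain_tensor (k := k) (A ⧸ p) A
      have hs : Function.Surjective (Ideal.Quotient.mkₐ k p) := Ideal.Quotient.mk_surjective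
      have := RingHom.ker_isPrime (Algebra.TensorProduct.map (Ideal.Quotient.mkₐ k p) (AlgHom.id k A) :
        A ⊗[k] A →ₐ[k] (A ⧸ p) ⊗[k] A)
      have e := Algebra.TensorProduct.rTensor_ker (R := k) (S := k) (C := A) (Ideal.Quotient.mkₐ k p) hs
      have e2 := e.trans (congrArg (Ideal.map _) (Ideal.Quotient.mkₐ_ker k p))
      exact e2 ▸ this)
      (Ideal.mem_span_singleton.2 ⟨_, hxx.symm⟩) h
    exact ⟨p, hp, Or.inl e⟩
  · obtain ⟨p, hp, e⟩ := key Algebra.TensorProduct.includeRight (fun p hp => by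
      haveI := GeomIrr.isDomain_tensor (k := k) A (A ⧸ p)
      have hs : Function.Surjective (Ideal.Quotient.mkₐ k p) := Ideal.Quotient.mk_surjective
      have := RingHom.ker_isPrime (Algebra.TensorProduct.map (AlgHom.id k A) (Ideal.Quotient.mkₐ k p) :
        A ⊗[k] A →ₐ[k] A ⊗[k] (A ⧸ p))
      have e := Algebra.TensorProduct.lTensor_ker (R := k) (A := A) (Ideal.Quotient.mkₐ k p) hs
      have e2 := e.trans (congrArg (Ideal.map _) (Ideal.Quotient.mkₐ_ker k p))
      exact e2 ▸ this)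
      (Ideal.mem_span_singleton.2 ⟨_, by rw [mul_comm]; exact hxx.symm⟩) h
    exact ⟨p, hp, Or.inr e⟩

/-- Generation of the class groups of a connected affine group and of its square. -/
theorem exists_generators [IsAlgClosed k] (A : Type u) [CommRing A] [HopfAlgebra k A] [IsDomain A]
    [Algebra.FiniteType k A] :
    haveI := GeomIrr.isDomain_tensor (k := k) A A
    ∃ S : Finset (Ideal A), (∀ p ∈ S, Inv p) ∧
      (∀ I : Ideal A, Inv I → ∃ s : Multiset (Ideal A), (∀ p ∈ s, p ∈ S) ∧ Sim I s.prod) ∧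
      ∀ K : Ideal (A ⊗[k] A), Inv K → ∃ I₁ I₂ : Ideal A, Inv I₁ ∧ Inv I₂ ∧
        Sim K (I₁.map (Algebra.TensorProduct.includeLeft : A →ₐ[k] A ⊗[k] A) *
          I₂.map (Algebra.TensorProduct.includeRight : A →ₐ[k] A ⊗[k] A)) := by
  classical
  haveI := GeomIrr.isDomain_tensor (k := k) A A
  haveI : Algebra.Smooth k A := RatGrp14.smooth_of_isReduced A
  haveI : Algebra.Smooth k (A ⊗[k] A) := Algebra.Smooth.comp k A (A ⊗[k] A)
  haveI : IsNoetherianRing A := Algebra.FiniteType.isNoetherianRing k A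
  haveI : Algebra.FiniteType k (A ⊗[k] A) := inferInstance
  haveI : IsNoetherianRing (A ⊗[k] A) := Algebra.FiniteType.isNoetherianRing k _
  obtain ⟨n, ⟨e⟩⟩ := RatGrp14.isRat_of_isDomain (k := k) A
  let σ := ULift.{u} (Fin n)
  let P := MvPolynomial σ k
  obtain ⟨x, y, hx, hy, ⟨eA⟩⟩ := RatGrp14.exists_away_equiv (k := k) (A := A) (B := P)
    (e.trans (IsFractionRing.algEquivOfAlgEquiv (MvPolynomial.renameEquiv k (Equiv.ulift.{u, 0} (α := Fin n)).symm)))
  let φ : A →ₐ[k] Localization.Away x := IsScalarTower.toAlgHom k A _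
  let ι : P →ₐ[k] Localization.Away x := (eA.symm : Localization.Away y →ₐ[k] Localization.Away x).comp
    (IsScalarTower.toAlgHom k P _)
  have hφ : AwayMap (φ : A →+* Localization.Away x) x := awayMap_localization hx
  have hι : AwayMap (ι : P →+* Localization.Away x) y :=
    (awayMap_localization (x := y) hy).comp_equiv eA.symm.toRingEquiv
  haveI : IsDomain (Localization.Away x) :=
    IsLocalization.isDomain_localization (powers_le_nonZeroDivisors_of_noZeroDivisors hx)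
  haveI := GeomIrr.isDomain_tensor (k := k) (Localization.Away x) (Localization.Away x)
  let eP : MvPolynomial (σ ⊕ σ) k ≃+* P ⊗[k] P := (MvPolynomial.tensorEquivSum k σ σ k).symm.toRingEquiv
  have hA : ∀ m : Ideal A, ∀ _ : m.IsMaximal, UniqueFactorizationMonoid (Localization.AtPrime m) :=
    fun m _ => ufd_atPrime (k := k) A m
  have hB : ∀ m : Ideal (A ⊗[k] A), ∀ _ : m.IsMaximal, UniqueFactorizationMonoid (Localization.AtPrime m) :=
    fun m _ => ufd_atPrime (k := k) (A ⊗[k] A) m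
  have hSfin : ((Ideal.span {x}).minimalPrimes).Finite := Ideal.finite_minimalPrimes_of_isNoetherianRing A _
  refine ⟨hSfin.toFinset, fun p hp => inv_of_mem_minimalPrimes hA hx (hSfin.mem_toFinset.1 hp), fun I hI => ?_,
    fun K hK => ?_⟩
  · obtain ⟨I', hs, hI', N, hN⟩ := exists_sim_pow_mem hφ hι hI
    obtain ⟨s, hs', rfl⟩ := exists_prod hA hx hI' hN
    exact ⟨s, fun p hp => hSfin.mem_toFinset.2 (hs' p hp), hs⟩
  · obtain ⟨K', hs, hK', N, hN⟩ := exists_sim_pow_mem (hφ.tensor hφ) ((hι.tensor hι).equiv_comp eP) hK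
    have hxx : x ⊗ₜ[k] x ≠ 0 := fun h => (hφ.tensor hφ).unit.ne_zero (by rw [h, map_zero])
    obtain ⟨s, hs', rfl⟩ := exists_prod hB hxx hK' hN
    clear hN hK'
    suffices hprod : ∀ s : Multiset (Ideal (A ⊗[k] A)), (∀ p ∈ s, p ∈ (Ideal.span {x ⊗ₜ[k] x}).minimalPrimes) →
        ∃ I₁ I₂ : Ideal A, Inv I₁ ∧ Inv I₂ ∧
          s.prod = I₁.map (Algebra.TensorProduct.includeLeft : A →ₐ[k] A ⊗[k] A) *
            I₂.map (Algebra.TensorProduct.includeRight : A →ₐ[k] A ⊗[k] A) by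
      obtain ⟨I₁, I₂, h₁, h₂, he⟩ := hprod s hs'
      exact ⟨I₁, I₂, h₁, h₂, he ▸ hs⟩
    intro s
    induction s using Multiset.induction with
    | empty => exact fun _ => ⟨⊤, ⊤, inv_top, inv_top, by simp [Ideal.map_top, Ideal.one_eq_top]⟩
    | cons Q s ih =>
      intro hall
      obtain ⟨I₁, I₂, h₁, h₂, he⟩ := ih fun p hp => hall p (Multiset.mem_cons_of_mem hp)
      obtain ⟨p, hp, rfl | rfl⟩ := exists_eq_map_of_minimalPrime (hall Q (Multiset.mem_cons_self _ _))
      · exact ⟨p * I₁, I₂, (inv_of_mem_minimalPrimes hA hx hp).mul h₁, h₂, by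
          rw [Multiset.prod_cons, he, Ideal.map_mul, mul_assoc]⟩
      · exact ⟨I₁, p * I₂, h₁, (inv_of_mem_minimalPrimes hA hx hp).mul h₂, by
          rw [Multiset.prod_cons, he, Ideal.map_mul, mul_left_comm]⟩

end Groth.Agent.PicFin14
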