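import Mathlib.RingTheory.Ideal.MinimalPrime.Localization
import Mathlib.RingTheory.Localization.AtPrime.Basic
import Mathlib.RingTheory.UniqueFactorizationDomain.GCDMonoid
import Mathlib.RingTheory.UniqueFactorizationDomain.Ideal
import Mathlib.RingTheory.Ideal.UFD
import Mathlib.RingTheory.PicardGroup
import Mathlib.RingTheory.UniqueFactorizationDomain.NormalizedFactors
import Mathlib.RingTheory.Noetherian.Basic
import Mathlib.Algebra.GCDMonoid.Finset

/-!
# Invertible ideals up to principal ideals, without Dedekind hypotheses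
-/

set_option autoImplicit false
set_option linter.style.haveILetI false

universe u

open scoped Pointwise TensorProduct

namespace Groth.Agent.PicFin14

variable {R : Type u} [CommRing R]

/-- An ideal having a multiplicative inverse up to a nonzero principal ideal. -/
def Inv (I : Ideal R) : Prop := ∃ (J : Ideal R) (z : R), z ≠ 0 ∧ I * J = Ideal.span {z}

/-- Two ideals differ by nonzero principal ideals. -/
def Sim (I J : Ideal R) : Prop :=
  ∃ a b : R, a ≠ 0 ∧ b ≠ 0 ∧ Ideal.span {a} * I = Ideal.span {b} * J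

theorem Sim.refl [Nontrivial R] (I : Ideal R) : Sim I I := ⟨1, 1, one_ne_zero, one_ne_zero, rfl⟩

theorem Sim.symm {I J : Ideal R} (h : Sim I J) : Sim J I := by
  obtain ⟨a, b, ha, hb, e⟩ := h
  exact ⟨b, a, hb, ha, e.symm⟩

variable [IsDomain R]

theorem Sim.trans {I J K : Ideal R} (h : Sim I J) (h' : Sim J K) : Sim I K := by
  obtain ⟨a, b, ha, hb, e⟩ := h
  obtain ⟨a', b', ha', hb', e'⟩ := h'
  refine ⟨a' * a, b * b', mul_ne_zero ha' ha, mul_ne_zero hb hb', ?_⟩
  rw [← Ideal.span_singleton_mul_span_singleton, ← Ideal.span_singleton_mul_span_singleton, mul_assoc, e, mul_assoc,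
    ← e']
  ring

theorem Sim.mul {I J I' J' : Ideal R} (h : Sim I J) (h' : Sim I' J') : Sim (I * I') (J * J') := by
  obtain ⟨a, b, ha, hb, e⟩ := h
  obtain ⟨a', b', ha', hb', e'⟩ := h'
  refine ⟨a * a', b * b', mul_ne_zero ha ha', mul_ne_zero hb hb', ?_⟩
  rw [← Ideal.span_singleton_mul_span_singleton, ← Ideal.span_singleton_mul_span_singleton, mul_mul_mul_comm, e, e',
    mul_mul_mul_comm]

theorem sim_span {a : R} (ha : a ≠ 0) : Sim (Ideal.span {a}) ⊤ :=
  ⟨1, a, one_ne_zero, ha, by rw [Ideal.span_singleton_one, Ideal.top_mul, Ideal.mul_top]⟩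

/-- Ideals modulo nonzero principal ideals form a monoid. -/
def con (R : Type u) [CommRing R] [IsDomain R] : Con (Ideal R) where
  r := Sim
  iseqv := ⟨Sim.refl, Sim.symm, Sim.trans⟩
  mul' := Sim.mul

theorem inv_span {a : R} (ha : a ≠ 0) : Inv (Ideal.span {a}) :=
  ⟨⊤, a, ha, Ideal.mul_top _⟩

omit [IsDomain R] in
theorem inv_top [Nontrivial R] : Inv (⊤ : Ideal R) :=
  ⟨⊤, 1, one_ne_zero, by rw [Ideal.span_singleton_one, Ideal.top_mul]⟩

theorem Inv.mul {I J : Ideal R} (h : Inv I) (h' : Inv J) : Inv (I * J) := by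
  obtain ⟨K, z, hz, e⟩ := h
  obtain ⟨K', z', hz', e'⟩ := h'
  exact ⟨K * K', z * z', mul_ne_zero hz hz', by rw [mul_mul_mul_comm, e, e', Ideal.span_singleton_mul_span_singleton]⟩

theorem Inv.pow {I : Ideal R} (h : Inv I) : ∀ n : ℕ, Inv (I ^ n)
  | 0 => by rw [pow_zero, Ideal.one_eq_top]; exact inv_top
  | n + 1 => by rw [pow_succ]; exact (h.pow n).mul h

theorem Inv.of_mul {I J : Ideal R} (h : Inv (I * J)) : Inv I := by
  obtain ⟨K, z, hz, e⟩ := h
  exact ⟨J * K, z, hz, by rw [← mul_assoc, e]⟩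

theorem Inv.cancel {I K L : Ideal R} (h : Inv I) (e : I * K = I * L) : K = L := by
  obtain ⟨J, z, hz, eJ⟩ := h
  refine (Ideal.span_singleton_mul_right_inj hz).1 ?_
  rw [← eJ, mul_comm I J, mul_assoc, e, mul_assoc]

theorem Inv.span_cancel {I : Ideal R} (h : Inv I) {a b : R} (e : Ideal.span {a} * I = Ideal.span {b} * I) :
    Ideal.span {a} = Ideal.span {b} := by
  rw [mul_comm _ I, mul_comm _ I] at e
  exact h.cancel e

theorem Inv.ne_bot {I : Ideal R} (h : Inv I) : I ≠ ⊥ := by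
  rintro rfl
  obtain ⟨J, z, hz, e⟩ := h
  rw [Ideal.bot_mul, eq_comm, Ideal.span_singleton_eq_bot] at e
  exact hz e

theorem Inv.of_sim {I J : Ideal R} (h : Inv I) (s : Sim J I) : Inv J := by
  obtain ⟨a, b, ha, hb, e⟩ := s
  refine Inv.of_mul (J := Ideal.span {a}) ?_
  rw [mul_comm, e]
  exact (inv_span hb).mul h

omit [IsDomain R] in
theorem Inv.map {S : Type u} [CommRing S] {F : Type*} [FunLike F R S] [RingHomClass F R S] (f : F) {I : Ideal R}
    (h : Inv I)
    (hf : ∀ r : R, r ≠ 0 → f r ≠ 0) : Inv (I.map f) := by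
  obtain ⟨J, z, hz, e⟩ := h
  exact ⟨J.map f, f z, hf z hz, by rw [← Ideal.map_mul, e, Ideal.map_span, Set.image_singleton]⟩

omit [IsDomain R] in
/-- An invertible ideal is principal near each prime. -/
theorem Inv.exists_local {I J : Ideal R} {z : R} (hz : z ∈ nonZeroDivisors R) (e : I * J = Ideal.span {z})
    (m : Ideal R) [m.IsPrime] : ∃ i ∈ I, ∃ j ∈ J, ∃ c ∉ m, i * j = z * c := by
  by_contra hne
  push Not at hne
  have : ∀ w ∈ I * J, ∃ c ∈ m, w = z * c := by
    intro w hw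
    refine Submodule.mul_induction_on hw ?_ ?_
    · intro i hi j hj
      obtain ⟨c, hc⟩ := Ideal.mem_span_singleton'.1 (e ▸ Ideal.mul_mem_mul hi hj)
      refine ⟨c, ?_, by rw [← hc, mul_comm]⟩
      by_contra hcm
      exact hne i hi j hj c hcm (by rw [← hc, mul_comm])
    · rintro a b ⟨c, hc, rfl⟩ ⟨c', hc', rfl⟩
      exact ⟨c + c', add_mem hc hc', (mul_add _ _ _).symm⟩
  obtain ⟨c, hc, hzc⟩ := this z (e ▸ Ideal.mem_span_singleton_self z)
  have h1 : c = 1 := (mem_nonZeroDivisors_iff_right.1 hz (c - 1) (by rw [sub_mul, mul_comm c, ← hzc, one_mul, sub_self])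
    |> sub_eq_zero.1)
  exact (Ideal.IsPrime.ne_top ‹_›) (m.eq_top_iff_one.2 (h1 ▸ hc))

theorem Inv.exists_gen {I : Ideal R} (h : Inv I) (m : Ideal R) [m.IsPrime] :
    ∃ π ∈ I, π ≠ 0 ∧ ∃ s ∉ m, ∀ i ∈ I, ∃ r, s * i = π * r := by
  obtain ⟨J, z, hz, e⟩ := h
  obtain ⟨π, hπ, j, hj, s, hs, hsz⟩ := Inv.exists_local (mem_nonZeroDivisors_of_ne_zero hz) e m
  have hπ0 : π ≠ 0 := by
    rintro rfl
    rw [zero_mul, eq_comm, mul_eq_zero] at hsz
    exact hsz.elim hz fun h => hs (h ▸ zero_mem m)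
  refine ⟨π, hπ, hπ0, s, hs, fun i hi => ?_⟩
  obtain ⟨r, hr⟩ := Ideal.mem_span_singleton'.1 (e ▸ Ideal.mul_mem_mul hi hj)
  exact ⟨r, mul_left_cancel₀ hz (by linear_combination (-i) * hsz + (-π) * hr)⟩

/-- Division of an ideal by an element. -/
def divEl (a : R) (I : Ideal R) : Ideal R := Submodule.comap (LinearMap.mulLeft R a) I

omit [IsDomain R] in
theorem mem_divEl {a b : R} {I : Ideal R} : b ∈ divEl a I ↔ a * b ∈ I := Iff.rfl

omit [IsDomain R] in
theorem span_mul_divEl {a : R} {I : Ideal R} (h : I ≤ Ideal.span {a}) : Ideal.span {a} * divEl a I = I := by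
  refine le_antisymm (Ideal.span_singleton_mul_le_iff.2 fun b hb => hb) fun i hi => ?_
  obtain ⟨b, rfl⟩ := Ideal.mem_span_singleton'.1 (h hi)
  exact Ideal.mem_span_singleton_mul.2 ⟨b, by rw [mem_divEl, mul_comm]; exact hi, mul_comm _ _⟩

theorem exists_sim_not_le {I : Ideal R} (h : Inv I) (m : Ideal R) [m.IsPrime] :
    ∃ I', Inv I' ∧ Sim I I' ∧ ¬ I' ≤ m := by
  obtain ⟨π, hπ, hπ0, s, hs, hI⟩ := h.exists_gen m
  have hs0 : s ≠ 0 := fun h0 => hs (h0 ▸ zero_mem m)
  have hle : Ideal.span {s} * I ≤ Ideal.span {π} := Ideal.span_singleton_mul_le_iff.2 fun i hi => by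
    obtain ⟨r, hr⟩ := hI i hi
    exact Ideal.mem_span_singleton'.2 ⟨r, by rw [hr, mul_comm]⟩
  have hsim : Sim I (divEl π (Ideal.span {s} * I)) := ⟨s, π, hs0, hπ0, (span_mul_divEl hle).symm⟩
  refine ⟨_, h.of_sim hsim.symm, hsim, fun hm => hs (hm ?_)⟩
  rw [mem_divEl, mul_comm π s]
  exact Ideal.mul_mem_mul (Ideal.mem_span_singleton_self s) hπ

/-- Similar ideals not contained in a prime are related by elements outside of it. -/
theorem exists_scalars {I J : Ideal R} (h : Sim I J) (m : Ideal R) [m.IsPrime] (hI : ¬ I ≤ m) (hJ : ¬ J ≤ m) :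
    ∃ x y, x ∉ m ∧ y ∉ m ∧ Ideal.span {y} * I = Ideal.span {x} * J := by
  obtain ⟨a, b, ha, hb, e⟩ := h
  obtain ⟨x, hx, hxm⟩ := SetLike.not_le_iff_exists.1 hI
  obtain ⟨y, hy, hxy⟩ := Ideal.mem_span_singleton_mul.1
    (e ▸ Ideal.mul_mem_mul (Ideal.mem_span_singleton_self a) hx)
  have e' : Ideal.span {y} * I = Ideal.span {x} * J := by
    refine (Ideal.span_singleton_mul_right_inj ha).1 ?_
    rw [mul_left_comm, e, ← mul_assoc, ← mul_assoc, Ideal.span_singleton_mul_span_singleton,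
      Ideal.span_singleton_mul_span_singleton, mul_comm y b, hxy]
  refine ⟨x, y, hxm, fun hym => ?_, e'⟩
  obtain ⟨w, hw, hwm⟩ := SetLike.not_le_iff_exists.1 hJ
  obtain ⟨v, -, hv⟩ := Ideal.mem_span_singleton_mul.1
    (e'.symm ▸ Ideal.mul_mem_mul (Ideal.mem_span_singleton_self x) hw)
  exact (Ideal.IsPrime.mem_or_mem ‹_› (hv ▸ m.mul_mem_right v hym : x * w ∈ m)).elim hxm hwm

theorem inv_of_locally_principal {p : Ideal R} (hp : p ≠ ⊥)
    (h : ∀ m : Ideal R, m.IsMaximal → p ≤ m → ∃ π ∈ p, π ≠ 0 ∧ ∃ s ∉ m, ∀ i ∈ p, ∃ r, s * i = π * r) : Inv p := by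
  obtain ⟨z, hzp, hz⟩ := Submodule.exists_mem_ne_zero_of_ne_bot hp
  let J : Ideal R :=
    { carrier := {a | ∀ i ∈ p, a * i ∈ Ideal.span {z}}
      add_mem' := fun ha hb i hi => by rw [add_mul]; exact add_mem (ha i hi) (hb i hi)
      zero_mem' := fun i _ => by rw [zero_mul]; exact zero_mem _
      smul_mem' := fun c a ha i hi => by rw [smul_eq_mul, mul_assoc]; exact Ideal.mul_mem_left _ c (ha i hi) }
  refine ⟨J, z, hz, le_antisymm (Ideal.mul_le.2 fun i hi a ha => mul_comm a i ▸ ha i hi) ?_⟩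
  rw [Ideal.span_singleton_le_iff_mem]
  suffices hd : divEl z (p * J) = ⊤ by simpa [mem_divEl] using (Ideal.eq_top_iff_one _).1 hd
  by_contra hne
  obtain ⟨m, hm, hle⟩ := Ideal.exists_le_maximal _ hne
  by_cases hpm : p ≤ m
  · obtain ⟨π, hπ, hπ0, s, hs, hI⟩ := h m hm hpm
    obtain ⟨a, ha⟩ := hI z hzp
    refine hs (hle ?_)
    rw [mem_divEl, mul_comm z s, ha]
    refine Ideal.mul_mem_mul hπ fun i hi => ?_
    obtain ⟨r, hr⟩ := hI i hi
    exact Ideal.mem_span_singleton'.2 ⟨r, mul_left_cancel₀ hπ0 (by linear_combination i * ha - z * hr)⟩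
  · obtain ⟨s, hs, hsm⟩ := SetLike.not_le_iff_exists.1 hpm
    refine hsm (hle ?_)
    rw [mem_divEl, mul_comm z s]
    exact Ideal.mul_mem_mul hs fun i _ => Ideal.mem_span_singleton'.2 ⟨i, mul_comm i z⟩

section generation

variable [IsNoetherianRing R]
  (hufd : ∀ m : Ideal R, ∀ _ : m.IsMaximal, UniqueFactorizationMonoid (Localization.AtPrime m))
  {x : R} (hx : x ≠ 0)

include hufd hx

theorem inv_of_mem_minimalPrimes {p : Ideal R} (hp : p ∈ (Ideal.span {x}).minimalPrimes) : Inv p := by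
  classical
  haveI := hp.1.1
  have hxp : x ∈ p := hp.1.2 (Ideal.mem_span_singleton_self x)
  refine inv_of_locally_principal (fun h => hx (Ideal.mem_bot.1 (h ▸ hxp))) fun m hm hpm => ?_
  haveI := hufd m hm
  let L := Localization.AtPrime m
  let f := algebraMap R L
  have hfinj : Function.Injective f := IsLocalization.injective L m.primeCompl_le_nonZeroDivisors
  have hdisj : Disjoint (m.primeCompl : Set R) p := Set.disjoint_left.2 fun a ha hap => ha (hpm hap)
  have hP : (p.map f).IsPrime := IsLocalization.isPrime_of_isPrime_disjoint m.primeCompl L p ‹_› hdisj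
  have hcomap : (p.map f).comap f = p := IsLocalization.comap_map_of_isPrime_disjoint m.primeCompl L ‹_› hdisj
  have hfx : f x ≠ 0 := (map_ne_zero_iff f hfinj).2 hx
  obtain ⟨F, hF, hFx⟩ := UniqueFactorizationMonoid.exists_prime_factors (f x) hfx
  obtain ⟨q, hqF, hqP⟩ : ∃ q ∈ F, q ∈ p.map f := by
    refine (Ideal.IsPrime.multiset_prod_mem_iff_exists_mem hP F).1 ?_
    obtain ⟨w, hw⟩ := hFx
    have : F.prod * (w : L) ∈ p.map f := hw ▸ Ideal.mem_map_of_mem f hxp
    exact (Ideal.mul_unit_mem_iff_mem _ (Units.isUnit w)).1 this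
  have hq : Prime q := hF q hqF
  haveI : (Ideal.span {q}).IsPrime := (Ideal.span_singleton_prime hq.ne_zero).2 hq
  have hle : p ≤ (Ideal.span {q}).comap f := by
    refine hp.2 ⟨inferInstance, ?_⟩ (hcomap ▸ Ideal.comap_mono ((Ideal.span_singleton_le_iff_mem _).2 hqP))
    rw [Ideal.span_singleton_le_iff_mem, Ideal.mem_comap, Ideal.mem_span_singleton]
    exact (Multiset.dvd_prod hqF).trans hFx.dvd
  obtain ⟨⟨π, t⟩, hπt⟩ := IsLocalization.surj m.primeCompl q
  have hπp : π ∈ p := by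
    rw [← hcomap, Ideal.mem_comap]
    exact hπt ▸ (p.map f).mul_mem_right _ hqP
  have hπ0 : π ≠ 0 := fun h0 => by
    rw [h0, map_zero, mul_eq_zero] at hπt
    exact hπt.elim hq.ne_zero ((map_ne_zero_iff f hfinj).2 fun h => t.2 (h ▸ zero_mem m))
  have key : ∀ i ∈ p, ∃ s ∉ m, ∃ r, s * i = π * r := fun i hi => by
    obtain ⟨c, hc⟩ := Ideal.mem_span_singleton.1 (Ideal.mem_comap.1 (hle hi))
    obtain ⟨⟨r, t'⟩, hr⟩ := IsLocalization.surj m.primeCompl c
    refine ⟨t * t', m.primeCompl.mul_mem t.2 t'.2, r, hfinj ?_⟩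
    rw [map_mul, map_mul, map_mul, hc, ← hr, ← hπt]
    ring
  obtain ⟨T, hT⟩ := IsNoetherian.noetherian p
  choose σ hσ ρ hρ using fun i : T => key i (hT ▸ Submodule.subset_span i.2)
  refine ⟨π, hπp, hπ0, ∏ i, σ i, fun hmem => ?_, fun i hi => ?_⟩
  · obtain ⟨i, -, hi⟩ := Ideal.IsPrime.prod_mem_iff.1 hmem
    exact hσ i hi
  · rw [← hT] at hi
    induction hi using Submodule.span_induction with
    | mem w hw =>
      obtain ⟨d, hd⟩ := Finset.dvd_prod_of_mem σ (Finset.mem_univ (⟨w, hw⟩ : T))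
      exact ⟨d * ρ ⟨w, hw⟩, by rw [hd]; linear_combination d * hρ ⟨w, hw⟩⟩
    | zero => exact ⟨0, by simp⟩
    | add a b _ _ ha hb =>
      obtain ⟨r, hr⟩ := ha
      obtain ⟨r', hr'⟩ := hb
      exact ⟨r + r', by rw [mul_add, mul_add, hr, hr']⟩
    | smul c a _ ha =>
      obtain ⟨r, hr⟩ := ha
      exact ⟨c * r, by rw [smul_eq_mul]; linear_combination c * hr⟩

theorem exists_le_minimalPrime {I : Ideal R} (hI : Inv I) (hne : I ≠ ⊤) {N : ℕ} (hN : x ^ N ∈ I) :
    ∃ p ∈ (Ideal.span {x}).minimalPrimes, I ≤ p := by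
  classical
  obtain ⟨m, hm, hIm⟩ := Ideal.exists_le_maximal I hne
  haveI := hufd m hm
  obtain ⟨π, hπ, hπ0, s, hs, hgen⟩ := hI.exists_gen m
  let L := Localization.AtPrime m
  let f := algebraMap R L
  have hfinj : Function.Injective f := IsLocalization.injective L m.primeCompl_le_nonZeroDivisors
  have hnu : ¬ IsUnit (f π) := fun hu => (IsLocalization.AtPrime.isUnit_to_map_iff L m π).1 hu (hIm hπ)
  obtain ⟨q, hqi, hqd⟩ := WfDvdMonoid.exists_irreducible_factor hnu ((map_ne_zero_iff f hfinj).2 hπ0)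
  have hq : Prime q := hqi.prime
  haveI : (Ideal.span {q}).IsPrime := (Ideal.span_singleton_prime hq.ne_zero).2 hq
  set p := (Ideal.span {q}).comap f
  have hIp : I ≤ p := fun i hi => by
    obtain ⟨r, hr⟩ := hgen i hi
    have h1 : f s * f i ∈ Ideal.span {q} := by
      rw [← map_mul, hr, map_mul]
      exact Ideal.mul_mem_right _ _ (Ideal.mem_span_singleton.2 hqd)
    exact (Ideal.unit_mul_mem_iff_mem _ (IsLocalization.map_units L (⟨s, hs⟩ : m.primeCompl))).1 h1
  have hxp : x ∈ p := Ideal.IsPrime.mem_of_pow_mem inferInstance _ (hIp hN)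
  obtain ⟨p₀, hp₀, hle⟩ := Ideal.exists_minimalPrimes_le ((Ideal.span_singleton_le_iff_mem p).2 hxp)
  refine ⟨p₀, hp₀, hIp.trans ?_⟩
  haveI := hp₀.1.1
  have hpm : p ≤ m := fun a ha => by
    by_contra h
    exact (inferInstance : (Ideal.span {q}).IsPrime).ne_top
      (Ideal.eq_top_of_isUnit_mem _ (Ideal.mem_comap.1 ha) (IsLocalization.map_units L (⟨a, h⟩ : m.primeCompl)))
  have hdisj : Disjoint (m.primeCompl : Set R) p₀ := Set.disjoint_left.2 fun a ha hap => ha (hpm (hle hap))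
  have hP : (p₀.map f).IsPrime := IsLocalization.isPrime_of_isPrime_disjoint m.primeCompl L p₀ ‹_› hdisj
  have hcomap : (p₀.map f).comap f = p₀ := IsLocalization.comap_map_of_isPrime_disjoint m.primeCompl L ‹_› hdisj
  have hx₀ : f x ∈ p₀.map f := Ideal.mem_map_of_mem f (hp₀.1.2 (Ideal.mem_span_singleton_self x))
  obtain ⟨q', hq', hq'p⟩ := Ideal.IsPrime.exists_mem_prime_of_ne_bot hP
    fun h => (map_ne_zero_iff f hfinj).2 hx (Ideal.mem_bot.1 (h ▸ hx₀))
  have hqq' : Associated q q' := hq.irreducible.associated_of_dvd hq'p.irreducible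
    (Ideal.mem_span_singleton.1 ((Ideal.map_le_iff_le_comap.2 hle) hq'))
  rw [← hcomap]
  refine Ideal.comap_mono ((Ideal.span_singleton_le_iff_mem _).2 ?_)
  obtain ⟨w, hw⟩ := hqq'.symm
  exact hw ▸ Ideal.mul_mem_right _ _ hq'

/-- Invertible ideals containing a power of `x` are products of minimal primes over `x`. -/
theorem exists_prod {I : Ideal R} (hI : Inv I) {N : ℕ} (hN : x ^ N ∈ I) :
    ∃ s : Multiset (Ideal R), (∀ p ∈ s, p ∈ (Ideal.span {x}).minimalPrimes) ∧ I = s.prod := by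
  induction I using WellFoundedGT.induction with
  | _ I ih =>
    by_cases hne : I = ⊤
    · exact ⟨0, by simp, by rw [hne, Multiset.prod_zero, Ideal.one_eq_top]⟩
    obtain ⟨p, hp, hle⟩ := exists_le_minimalPrime hufd hx hI hne hN
    have hpI := inv_of_mem_minimalPrimes hufd hx hp
    obtain ⟨J, z, hz, e⟩ := id hpI
    have hIJ : I * J ≤ Ideal.span {z} := e ▸ Ideal.mul_mono hle le_rfl
    set I' := divEl z (I * J)
    have hI' : Ideal.span {z} * I' = I * J := span_mul_divEl hIJ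
    have hpI' : p * I' = I := by
      refine (Ideal.span_singleton_mul_right_inj hz).1 ?_
      rw [mul_left_comm, hI', ← e]
      ring
    have hinv : Inv I' := Inv.of_mul (J := p) (by rw [mul_comm, hpI']; exact hI)
    have hII' : I ≤ I' := hpI' ▸ Ideal.mul_le_right
    have hlt : I < I' := lt_of_le_of_ne hII' fun h => by
      have h1 : I * p = I * ⊤ := by rw [Ideal.mul_top, mul_comm]; conv_rhs => rw [← hpI', ← h]
      exact hp.1.1.ne_top (hI.cancel h1)
    obtain ⟨s, hs, hs'⟩ := ih I' hlt hinv (hII' hN)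
    exact ⟨p ::ₘ s, fun a ha => (Multiset.mem_cons.1 ha).elim (fun h => h ▸ hp) (hs a),
      by rw [Multiset.prod_cons, ← hs', hpI']⟩

end generation

section away

variable {C : Type u} [CommRing C]

/-- An injective map which is a localisation away from an element. -/
structure AwayMap (φ : R →+* C) (x : R) : Prop where
  injective : Function.Injective φ
  unit : IsUnit (φ x)
  surj : ∀ c : C, ∃ (n : ℕ) (r : R), c * φ x ^ n = φ r

omit [IsDomain R] in
theorem AwayMap.mem_map {φ : R →+* C} {x : R} (h : AwayMap φ x) {I : Ideal R} {c : C} (hc : c ∈ I.map φ) :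
    ∃ (n : ℕ) (r : R), r ∈ I ∧ c * φ x ^ n = φ r := by
  induction hc using Submodule.span_induction with
  | mem w hw =>
    obtain ⟨r, hr, rfl⟩ := hw
    exact ⟨0, r, hr, by simp⟩
  | zero => exact ⟨0, 0, zero_mem I, by simp⟩
  | add a b _ _ ha hb =>
    obtain ⟨n, r, hr, e⟩ := ha
    obtain ⟨n', r', hr', e'⟩ := hb
    refine ⟨n + n', r * x ^ n' + r' * x ^ n, add_mem (I.mul_mem_right _ hr) (I.mul_mem_right _ hr'), ?_⟩
    simp only [map_add, map_mul, map_pow, ← e, ← e']
    ring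
  | smul b a _ ha =>
    obtain ⟨n, r, hr, e⟩ := ha
    obtain ⟨m, r', e'⟩ := h.surj b
    refine ⟨m + n, r' * r, I.mul_mem_left _ hr, ?_⟩
    rw [map_mul, ← e, ← e', smul_eq_mul]
    ring

omit [IsDomain R] in
/-- In a localisation of a GCD domain, invertible ideals of finite type are principal. -/
theorem exists_eq_span {P : Type u} [CommRing P] [IsDomain P] [UniqueFactorizationMonoid P] [IsDomain C]
    {ι : P →+* C} {y : P} (hι : AwayMap ι y) {I : Ideal C} (hI : Inv I) (hfg : I.FG) :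
    ∃ d, I = Ideal.span {d} := by
  classical
  obtain ⟨inst⟩ := (inferInstance : Nonempty (StrongNormalizationMonoid P))
  letI := UniqueFactorizationMonoid.toStrongNormalizedGCDMonoid P
  obtain ⟨T, hT⟩ := hfg
  obtain ⟨J, z, hz, e⟩ := hI
  choose ν ρ hρ using hι.surj
  have hy : y ≠ 0 := fun h => hι.unit.ne_zero (by rw [h, map_zero])
  set d' := T.gcd ρ
  refine ⟨ι d', le_antisymm ?_ ?_⟩
  · rw [← hT]
    refine Submodule.span_le.2 fun i hi => Ideal.mem_span_singleton.2 ?_
    exact ((hι.unit.pow (ν i)).dvd_mul_right).1 ((hρ i).symm ▸ map_dvd ι (Finset.gcd_dvd hi))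
  · rw [Ideal.span_singleton_le_iff_mem]
    have hJ : Ideal.span {ι d'} * J ≤ Ideal.span {z} := Ideal.span_singleton_mul_le_iff.2 fun j hj => by
      have hdvd : ∀ i ∈ T, ∃ n, ρ z ∣ ρ i * ρ j * y ^ n := by
        intro i hi
        obtain ⟨c, hc⟩ := Ideal.mem_span_singleton'.1
          (e ▸ Ideal.mul_mem_mul (hT ▸ Submodule.subset_span hi : i ∈ I) hj)
        refine ⟨ν c + ν z, ρ c * y ^ (ν i + ν j), hι.injective ?_⟩
        simp only [map_mul, map_pow, ← hρ]
        linear_combination (-(ι y ^ ν i * ι y ^ ν j * ι y ^ (ν c + ν z))) * hc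
      choose! n hn using hdvd
      set N := T.sup n
      have h1 : ρ z ∣ T.gcd (fun i => (ρ j * y ^ N) * ρ i) := Finset.dvd_gcd fun i hi => by
        refine (hn i hi).trans ?_
        obtain ⟨a, ha⟩ := Nat.exists_eq_add_of_le (Finset.le_sup (f := n) hi)
        exact ⟨y ^ a, by rw [show N = n i + a from ha, pow_add]; ring⟩
      have h2 : ρ z ∣ ρ j * y ^ N * d' := h1.trans (Finset.gcd_mul_left' T ρ (ρ j * y ^ N)).dvd
      obtain ⟨w, hw⟩ := h2
      rw [Ideal.mem_span_singleton]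
      refine ((hι.unit.pow (ν j + N)).dvd_mul_right).1 ⟨ι y ^ ν z * ι w, ?_⟩
      have := congrArg ι hw
      simp only [map_mul, map_pow, ← hρ] at this
      linear_combination this
    have h3 : Ideal.span {z} * Ideal.span {ι d'} ≤ Ideal.span {z} * I := by
      rw [← e, mul_assoc, mul_comm J, e, mul_comm (Ideal.span {z}) I]
      exact Ideal.mul_mono le_rfl hJ
    exact (Ideal.span_singleton_mul_right_mono hz).1 h3 (Ideal.mem_span_singleton_self _)

/-- If the localisation is a localisation of a GCD domain, classes are represented by ideals with power of `x`. -/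
theorem exists_sim_pow_mem [IsNoetherianRing R] [IsDomain C] {φ : R →+* C} {x : R} (hφ : AwayMap φ x)
    {P : Type u} [CommRing P] [IsDomain P] [UniqueFactorizationMonoid P] {ι : P →+* C} {y : P} (hι : AwayMap ι y)
    {I : Ideal R} (hI : Inv I) : ∃ I', Sim I I' ∧ Inv I' ∧ ∃ N, x ^ N ∈ I' := by
  classical
  have hfg : I.FG := IsNoetherian.noetherian I
  obtain ⟨d, hd⟩ := exists_eq_span hι
    (hI.map φ fun r hr => (map_ne_zero_iff φ hφ.injective).2 hr) (hfg.map φ)
  obtain ⟨n, g, hg, hge⟩ := hφ.mem_map (hd.symm ▸ Ideal.mem_span_singleton_self d : d ∈ I.map φ)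
  have hx : x ≠ 0 := fun h => hφ.unit.ne_zero (by rw [h, map_zero])
  have key : ∀ i ∈ I, ∃ N r, x ^ N * i = g * r := fun i hi => by
    obtain ⟨c, hc⟩ := Ideal.mem_span_singleton'.1 (hd ▸ Ideal.mem_map_of_mem φ hi)
    obtain ⟨m, r, hr⟩ := hφ.surj c
    refine ⟨n + m, r, hφ.injective ?_⟩
    simp only [map_mul, map_pow, ← hge, ← hr, ← hc]
    ring
  obtain ⟨T, hT⟩ := hfg
  choose! ν ρ hρ using key
  set N := T.sup ν
  have hle : Ideal.span {x ^ N} * I ≤ Ideal.span {g} := by
    rw [← hT, Ideal.span_mul_span']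
    refine Ideal.span_le.2 ?_
    rintro _ ⟨_, rfl, i, hi, rfl⟩
    obtain ⟨a, ha⟩ := Nat.exists_eq_add_of_le (Finset.le_sup (f := ν) hi)
    refine Ideal.mem_span_singleton.2 ⟨x ^ a * ρ i, ?_⟩
    rw [show N = ν i + a from ha, pow_add]
    linear_combination (x ^ a) * hρ i (hT ▸ Submodule.subset_span hi)
  have hg0 : g ≠ 0 := by
    intro h
    have h1 : d = 0 := by
      rw [h, map_zero] at hge
      exact (mul_eq_zero.1 hge).resolve_right (pow_ne_zero _ hφ.unit.ne_zero)
    rw [h1, Ideal.span_singleton_eq_bot.2 rfl, Ideal.map_eq_bot_iff_of_injective hφ.injective] at hd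
    exact hI.ne_bot hd
  have hsim : Sim I (divEl g (Ideal.span {x ^ N} * I)) := ⟨x ^ N, g, pow_ne_zero _ hx, hg0, (span_mul_divEl hle).symm⟩
  refine ⟨_, hsim, hI.of_sim hsim.symm, N, ?_⟩
  rw [mem_divEl, mul_comm g]
  exact Ideal.mul_mem_mul (Ideal.mem_span_singleton_self _) hg

end away

section modules

/-- An ideal which is invertible as a module has an inverse up to a principal ideal. -/
theorem inv_of_invertible (I : Ideal R) [Module.Invertible R I] : Inv I := by
  classical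
  have hne : I ≠ ⊥ := by
    rintro rfl
    haveI : Subsingleton ((Module.Dual R (⊥ : Ideal R)) ⊗[R] (⊥ : Ideal R)) := inferInstance
    exact one_ne_zero ((Module.Invertible.linearEquiv R (⊥ : Ideal R)).symm.injective (Subsingleton.elim _ (_ : _)))
  obtain ⟨z, hzI, hz⟩ := Submodule.exists_mem_ne_zero_of_ne_bot hne
  obtain ⟨n, f, hf⟩ := Module.Finite.exists_fin' R I
  obtain ⟨s, hs⟩ := Module.projective_lifting_property f LinearMap.id hf
  refine ⟨Ideal.span (Set.range (s ⟨z, hzI⟩)), z, hz, le_antisymm (Ideal.mul_le.2 fun i hi a ha => ?_) ?_⟩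
  · induction ha using Submodule.span_induction with
    | mem w hw =>
      obtain ⟨t, rfl⟩ := hw
      refine Ideal.mem_span_singleton'.2 ⟨s ⟨i, hi⟩ t, ?_⟩
      have := congrFun (congrArg s (show i • (⟨z, hzI⟩ : I) = z • ⟨i, hi⟩ from Subtype.ext (mul_comm i z))) t
      rw [map_smul, map_smul, Pi.smul_apply, Pi.smul_apply, smul_eq_mul, smul_eq_mul] at this
      rw [this, mul_comm]
    | zero => simp
    | add a b _ _ ha hb => rw [mul_add]; exact add_mem ha hb
    | smul c a _ ha => rw [smul_eq_mul, mul_left_comm]; exact Ideal.mul_mem_left _ c ha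
  · rw [Ideal.span_singleton_le_iff_mem]
    have h := congrArg Subtype.val (LinearMap.congr_fun hs ⟨z, hzI⟩)
    rw [LinearMap.comp_apply, LinearMap.id_apply, LinearMap.pi_apply_eq_sum_univ f (s ⟨z, hzI⟩)] at h
    simp only [Submodule.coe_sum, Submodule.coe_smul, smul_eq_mul] at h
    suffices hm : (∑ t, s ⟨z, hzI⟩ t * (f (fun j => if t = j then 1 else 0) : R)) ∈ I * Ideal.span (Set.range (s ⟨z, hzI⟩)) from Eq.subst (motive := fun w => w ∈ _) h hm
    refine sum_mem fun t _ => ?_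
    rw [mul_comm I]
    exact Ideal.mul_mem_mul (Ideal.subset_span (Set.mem_range_self t)) (SetLike.coe_mem _)

theorem Sim.linearEquiv {I J : Ideal R} (h : Sim I J) : Nonempty (I ≃ₗ[R] J) := by
  obtain ⟨a, b, ha, hb, e⟩ := h
  have key : ∀ (c : R) (K : Ideal R), Submodule.map (LinearMap.mulLeft R c) K = Ideal.span {c} * K := fun c K => by
    ext v
    simp [Submodule.mem_map, Ideal.mem_span_singleton_mul]
  refine ⟨(Submodule.equivMapOfInjective (LinearMap.mulLeft R a) (fun _ _ h => mul_left_cancel₀ ha h) I).trans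
    ((LinearEquiv.ofEq _ _ (by rw [key, key, e])).trans
      (Submodule.equivMapOfInjective (LinearMap.mulLeft R b) (fun _ _ h => mul_left_cancel₀ hb h) J).symm)⟩

end modules

/-- A finitely generated torsion submonoid has finitely many elements. -/
theorem exists_finite_reps (S : Finset (Ideal R)) (h : ∀ p ∈ S, ∃ n, 1 ≤ n ∧ Sim (p ^ n) ⊤) :
    ∃ T : Set (Ideal R), T.Finite ∧ ∀ s : Multiset (Ideal R), (∀ p ∈ s, p ∈ S) → ∃ J ∈ T, Sim s.prod J := by
  classical
  choose! N hN hsim using h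
  let e : ((p : ↥S) → Fin (N (p : Ideal R))) → Ideal R := fun v => ∏ p : ↥S, (p : Ideal R) ^ (v p : ℕ)
  refine ⟨Set.range e, Set.finite_range e, fun s hs => ?_⟩
  refine ⟨e fun p => ⟨s.count (p : Ideal R) % N p, Nat.mod_lt _ (hN p p.2)⟩, ⟨_, rfl⟩, ?_⟩
  refine (con R).eq.1 ?_
  simp only [e]
  rw [show s.prod = ∏ p : S, (p : Ideal R) ^ s.count (p : Ideal R) by
    rw [Finset.prod_coe_sort S fun p => p ^ s.count p, Finset.prod_multiset_count_of_subset s S
      (fun p hp => hs p (Multiset.mem_toFinset.1 hp))]]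
  rw [← Con.coe_mk', map_prod, map_prod]
  refine Finset.prod_congr rfl fun p _ => ?_
  have h1 : ((con R).mk' (p : Ideal R)) ^ N p = 1 := by
    rw [← map_pow, ← map_one ((con R).mk'), Ideal.one_eq_top]
    exact (con R).eq.2 (hsim p p.2)
  rw [map_pow, map_pow, ← pow_eq_pow_mod _ h1] 

end Groth.Agent.PicFin14
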