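import Groth.Agent.Lib.PicFin14.Gen
import Groth.Agent.Lib.UnitsRos.Affine
import Mathlib.LinearAlgebra.Matrix.Determinant.Basic
import Mathlib.LinearAlgebra.Basis.VectorSpace

/-!
# Invertible ideals of connected affine groups are torsion in the class group

The twisted comultiplication of a primitive invertible ideal is coassociative by Rosenlicht's lemma;
the determinant of a finite comodule then generates a power of the ideal.
-/

set_option autoImplicit false
set_option linter.style.haveILetI false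
set_option backward.isDefEq.respectTransparency false
set_option backward.isDefEq.respectTransparency.types false

universe u

open scoped TensorProduct

noncomputable section

namespace Groth.Agent.PicFin14

variable {k : Type u} [Field k]

/-- Division of a linear map by a scalar, extended to the whole space. -/
theorem exists_linear {M B : Type u} [AddCommGroup M] [Module k M] [CommRing B] [IsDomain B] [Algebra k B]
    {x : B} (hx : x ≠ 0) (S : Submodule k M) (f : M →ₗ[k] B) (h : ∀ t ∈ S, ∃ d, x * d = f t) :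
    ∃ D : M →ₗ[k] B, ∀ t ∈ S, x * D t = f t := by
  choose d hd using fun t : S => h t t.2
  let D₀ : S →ₗ[k] B :=
    { toFun := d
      map_add' := fun a b => mul_left_cancel₀ hx (by rw [mul_add, hd, hd, hd, Submodule.coe_add, map_add])
      map_smul' := fun c a => mul_left_cancel₀ hx (by
        rw [RingHom.id_apply, mul_smul_comm, hd, hd, Submodule.coe_smul, map_smul]) }
  obtain ⟨D, hD⟩ := D₀.exists_extend
  exact ⟨D, fun t ht => by rw [show D t = d ⟨t, ht⟩ from LinearMap.congr_fun hD ⟨t, ht⟩]; exact hd ⟨t, ht⟩⟩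

/-- A closed point of an algebra of finite type over an algebraically closed field is a rational point. -/
theorem exists_point_of_isMaximal [IsAlgClosed k] {A : Type u} [CommRing A] [Algebra k A] [Algebra.FiniteType k A]
    (m : Ideal A) [m.IsMaximal] : ∃ g : A →ₐ[k] k, ∀ a, a ∈ m ↔ g a = 0 := by
  letI := Ideal.Quotient.field m
  haveI : Algebra.FiniteType k (A ⧸ m) :=
    Algebra.FiniteType.of_surjective (Ideal.Quotient.mkₐ k m) Ideal.Quotient.mk_surjective
  haveI : Module.Finite k (A ⧸ m) := finite_of_finite_type_of_isJacobsonRing k (A ⧸ m)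
  haveI : Algebra.IsIntegral k (A ⧸ m) := Algebra.IsIntegral.of_finite k _
  let e : k ≃ₐ[k] A ⧸ m := AlgEquiv.ofBijective (Algebra.ofId k (A ⧸ m))
    (IsAlgClosed.algebraMap_bijective_of_isIntegral (k := k) (K := A ⧸ m))
  refine ⟨e.symm.toAlgHom.comp (Ideal.Quotient.mkₐ k m), fun a => ?_⟩
  show _ ↔ e.symm (Ideal.Quotient.mk m a) = 0
  rw [map_eq_zero_iff e.symm e.symm.injective, Ideal.Quotient.eq_zero_iff_mem]

theorem map_map_alg {R S T : Type u} [CommRing R] [CommRing S] [CommRing T] [Algebra k R] [Algebra k S]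
    [Algebra k T] (I : Ideal R) (f : R →ₐ[k] S) (g : S →ₐ[k] T) : (I.map f).map g = I.map (g.comp f) :=
  Ideal.map_map (f : R →+* S) (g : S →+* T)

theorem map_eq_self {R : Type u} [CommRing R] [Algebra k R] (I : Ideal R) {f : R →ₐ[k] R} (h : ∀ a, f a = a) :
    I.map f = I := by
  rw [show f = AlgHom.id k R from AlgHom.ext h]
  exact Ideal.map_id I

theorem Sim.map {R S : Type u} [CommRing R] [CommRing S] {F : Type*} [FunLike F R S] [RingHomClass F R S] (f : F)
    (hf : Function.Injective f)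
    {I J : Ideal R} (h : Sim I J) : Sim (I.map f) (J.map f) := by
  obtain ⟨a, b, ha, hb, e⟩ := h
  refine ⟨f a, f b, (map_ne_zero_iff f hf).2 ha, (map_ne_zero_iff f hf).2 hb, ?_⟩
  have := congrArg (Ideal.map f) e
  rwa [Ideal.map_mul, Ideal.map_mul, Ideal.map_span, Ideal.map_span, Set.image_singleton, Set.image_singleton] at this

variable {A : Type u} [CommRing A] [HopfAlgebra k A]

local notation "B" => A ⊗[k] A
local notation "C" => A ⊗[k] (A ⊗[k] A)

/-- The counit as a map of algebras. -/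
def eps : A →ₐ[k] k := Bialgebra.counitAlgHom k A
/-- The comultiplication as a map of algebras. -/
def cmu : A →ₐ[k] B := Bialgebra.comulAlgHom k A
/-- The left inclusion. -/
abbrev inL : A →ₐ[k] B := Algebra.TensorProduct.includeLeft
/-- The right inclusion. -/
abbrev inR : A →ₐ[k] B := Algebra.TensorProduct.includeRight

/-- Restriction to the first factor. -/
def r₁ : B →ₐ[k] A :=
  Algebra.TensorProduct.lift (AlgHom.id k A) ((Algebra.ofId k A).comp eps) fun _ _ => .all _ _
/-- Restriction to the second factor. -/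
def r₂ : B →ₐ[k] A :=
  Algebra.TensorProduct.lift ((Algebra.ofId k A).comp eps) (AlgHom.id k A) fun _ _ => .all _ _
/-- The first two factors of the cube. -/
def e₁₂ : B →ₐ[k] C := Algebra.TensorProduct.map (AlgHom.id k A) inL
/-- The last two factors of the cube. -/
def e₂₃ : B →ₐ[k] C := Algebra.TensorProduct.includeRight
/-- Reassociation. -/
def asc : B ⊗[k] A →ₐ[k] C := (Algebra.TensorProduct.assoc k k k A A A).toAlgHom
/-- Comultiplication in the first factor. -/
def d₁ : B →ₐ[k] C := asc.comp (Algebra.TensorProduct.map cmu (AlgHom.id k A))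
/-- Comultiplication in the second factor. -/
def d₂ : B →ₐ[k] C := Algebra.TensorProduct.map (AlgHom.id k A) cmu
/-- Omit the first factor. -/
def q₁ : C →ₐ[k] B :=
  Algebra.TensorProduct.lift ((Algebra.ofId k B).comp eps) (AlgHom.id k B) fun _ _ => .all _ _
/-- Omit the last factor. -/
def q₃ : C →ₐ[k] B := Algebra.TensorProduct.map (AlgHom.id k A) r₁

@[simp] theorem r₁_tmul (a b : A) : r₁ (a ⊗ₜ[k] b) = eps (k := k) b • a := by
  simp [r₁, Algebra.smul_def, mul_comm]
@[simp] theorem r₂_tmul (a b : A) : r₂ (a ⊗ₜ[k] b) = eps (k := k) a • b := by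
  simp [r₂, Algebra.smul_def]
@[simp] theorem e₁₂_tmul (a b : A) : e₁₂ (a ⊗ₜ[k] b) = a ⊗ₜ[k] (b ⊗ₜ[k] (1 : A)) := rfl
@[simp] theorem e₂₃_apply (z : B) : e₂₃ z = (1 : A) ⊗ₜ[k] z := rfl
@[simp] theorem asc_tmul (a b c : A) : asc ((a ⊗ₜ[k] b) ⊗ₜ[k] c) = a ⊗ₜ[k] (b ⊗ₜ[k] c) := rfl
theorem d₁_tmul (a b : A) : d₁ (a ⊗ₜ[k] b) = asc (cmu a ⊗ₜ[k] b) := rfl
theorem d₂_tmul (a b : A) : d₂ (a ⊗ₜ[k] b) = a ⊗ₜ[k] cmu b := rfl
@[simp] theorem q₁_tmul (a : A) (z : B) : q₁ (a ⊗ₜ[k] z) = eps (k := k) a • z := by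
  simp [q₁, Algebra.smul_def]
@[simp] theorem q₃_tmul (a : A) (z : B) : q₃ (a ⊗ₜ[k] z) = a ⊗ₜ[k] r₁ z := rfl

theorem r₁_cmu (a : A) : r₁ (cmu (k := k) a) = a := by
  have h : ∀ z : B, r₁ z = TensorProduct.rid k A (CoalgebraStruct.counit.lTensor A z) := by
    intro z
    induction z with
    | zero => simp
    | tmul b c => simp [show ∀ v, CoalgebraStruct.counit (R := k) v = eps (k := k) v from fun _ => rfl]
    | add p q hp hq => simp only [map_add, hp, hq]
  rw [h]
  show TensorProduct.rid k A (CoalgebraStruct.counit.lTensor A (CoalgebraStruct.comul a)) = a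
  rw [Coalgebra.lTensor_counit_comul, TensorProduct.rid_tmul, one_smul]

theorem r₂_cmu (a : A) : r₂ (cmu (k := k) a) = a := by
  have h : ∀ z : B, r₂ z = TensorProduct.lid k A (CoalgebraStruct.counit.rTensor A z) := by
    intro z
    induction z with
    | zero => simp
    | tmul b c => simp [show ∀ v, CoalgebraStruct.counit (R := k) v = eps (k := k) v from fun _ => rfl]
    | add p q hp hq => simp only [map_add, hp, hq]
  rw [h]
  show TensorProduct.lid k A (CoalgebraStruct.counit.rTensor A (CoalgebraStruct.comul a)) = a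
  rw [Coalgebra.rTensor_counit_comul, TensorProduct.lid_tmul, one_smul]

theorem eps_r₂ (z : B) : eps (k := k) (r₂ z) = eps (k := k) (r₁ z) := by
  induction z with
  | zero => simp
  | tmul a b => simp [mul_comm]
  | add p q hp hq => simp only [map_add, hp, hq]

theorem d_cmu (a : A) : d₁ (cmu (k := k) a) = d₂ (cmu (k := k) a) := by
  have h1 : ∀ z : B, d₁ z = TensorProduct.assoc k A A A ((CoalgebraStruct.comul (R := k)).rTensor A z) := by
    intro z
    induction z with
    | zero => simp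
    | tmul b c => rfl
    | add p q hp hq => simp only [map_add, hp, hq]
  have h2 : ∀ z : B, d₂ z = (CoalgebraStruct.comul (R := k)).lTensor A z := by
    intro z
    induction z with
    | zero => simp
    | tmul b c => rfl
    | add p q hp hq => simp only [map_add, hp, hq]
  rw [h1, h2]
  exact Coalgebra.coassoc_apply a

theorem asc_eq (w : B) (b : A) : asc (w ⊗ₜ[k] b) = e₁₂ w * e₂₃ (inR b) := by
  induction w with
  | zero => simp
  | tmul a c => simp [Algebra.TensorProduct.tmul_mul_tmul]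
  | add p q hp hq => simp only [TensorProduct.add_tmul, map_add, add_mul, hp, hq]

theorem q₁_d₁ (z : B) : q₁ (d₁ z) = z := by
  induction z with
  | zero => simp
  | tmul a b =>
    have h : ∀ w : B, q₁ (asc (w ⊗ₜ[k] b)) = r₂ w ⊗ₜ[k] b := by
      intro w
      induction w with
      | zero => simp
      | tmul c d => simp [TensorProduct.smul_tmul']
      | add p q hp hq => simp only [TensorProduct.add_tmul, map_add, hp, hq]
    rw [d₁_tmul, h, r₂_cmu]
  | add p q hp hq => simp only [map_add, hp, hq]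

theorem q₁_d₂ (z : B) : q₁ (d₂ z) = cmu (r₂ z) := by
  induction z with
  | zero => simp
  | tmul a b => rw [d₂_tmul, q₁_tmul, r₂_tmul, map_smul]
  | add p q hp hq => simp only [map_add, hp, hq]

theorem q₁_e₁₂ (z : B) : q₁ (e₁₂ z) = inL (r₂ z) := by
  induction z with
  | zero => simp
  | tmul a b => simp [TensorProduct.smul_tmul']
  | add p q hp hq => simp only [map_add, hp, hq]

theorem q₁_e₂₃ (z : B) : q₁ (e₂₃ z) = z := by simp

theorem q₃_d₁ (z : B) : q₃ (d₁ z) = cmu (r₁ z) := by
  induction z with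
  | zero => simp
  | tmul a b =>
    have h : ∀ w : B, q₃ (asc (w ⊗ₜ[k] b)) = eps (k := k) b • w := by
      intro w
      induction w with
      | zero => simp
      | tmul c d => simp [TensorProduct.tmul_smul]
      | add p q hp hq => simp only [TensorProduct.add_tmul, map_add, smul_add, hp, hq]
    rw [d₁_tmul, h, r₁_tmul, map_smul]
  | add p q hp hq => simp only [map_add, hp, hq]

theorem q₃_d₂ (z : B) : q₃ (d₂ z) = z := by
  induction z with
  | zero => simp
  | tmul a b => rw [d₂_tmul, q₃_tmul, r₁_cmu]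
  | add p q hp hq => simp only [map_add, hp, hq]

theorem q₃_e₁₂ (z : B) : q₃ (e₁₂ z) = z := by
  induction z with
  | zero => simp
  | tmul a b => simp
  | add p q hp hq => simp only [map_add, hp, hq]

theorem q₃_e₂₃ (z : B) : q₃ (e₂₃ z) = inR (r₁ z) := by simp

/-- The first factor of the cube. -/
abbrev inL₃ : A →ₐ[k] C := Algebra.TensorProduct.includeLeft

/-- The product ideal on the square. -/
def sq (I : Ideal A) : Ideal B := I.map inL * I.map inR

theorem tmul_mem_sq {I : Ideal A} {i j : A} (hi : i ∈ I) (hj : j ∈ I) : i ⊗ₜ[k] j ∈ sq (k := k) I := by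
  have h := Ideal.mul_mem_mul (Ideal.mem_map_of_mem (inL (k := k)) hi) (Ideal.mem_map_of_mem (inR (k := k)) hj)
  simpa [sq, Algebra.TensorProduct.tmul_mul_tmul] using h

/-- The linear span of the pure tensors of elements of an ideal. -/
def sqSpan (I : Ideal A) : Submodule k B :=
  Submodule.span k {w | ∃ i ∈ I, ∃ j ∈ I, w = i ⊗ₜ[k] j}

theorem mul_mem_sqSpan {I : Ideal A} {z : B} (hz : z ∈ sqSpan (k := k) I) (w : B) : w * z ∈ sqSpan (k := k) I := by
  induction hz using Submodule.span_induction with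
  | mem v hv =>
    obtain ⟨i, hi, j, hj, rfl⟩ := hv
    induction w with
    | zero => simp
    | tmul a b =>
      rw [Algebra.TensorProduct.tmul_mul_tmul]
      exact Submodule.subset_span ⟨_, I.mul_mem_left a hi, _, I.mul_mem_left b hj, rfl⟩
    | add p q hp hq => rw [add_mul]; exact add_mem hp hq
  | zero => simp
  | add a b _ _ ha hb => rw [mul_add]; exact add_mem ha hb
  | smul c a _ ha => rw [mul_smul_comm]; exact Submodule.smul_mem _ c ha

theorem mem_sqSpan {I : Ideal A} {z : B} (hz : z ∈ sq (k := k) I) : z ∈ sqSpan (k := k) I := by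
  refine Submodule.mul_induction_on hz (fun a ha b hb => ?_) (fun a b => add_mem)
  induction ha using Submodule.span_induction with
  | mem v hv =>
    obtain ⟨i, hi, rfl⟩ := hv
    induction hb using Submodule.span_induction with
    | mem v hv =>
      obtain ⟨j, hj, rfl⟩ := hv
      refine Submodule.subset_span ⟨i, hi, j, hj, ?_⟩
      simp [Algebra.TensorProduct.tmul_mul_tmul]
    | zero => simp
    | add a b _ _ ha hb => rw [mul_add]; exact add_mem ha hb
    | smul c a _ ha => rw [smul_eq_mul, mul_left_comm]; exact mul_mem_sqSpan ha c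
  | zero => simp
  | add a b _ _ ha hb => rw [add_mul]; exact add_mem ha hb
  | smul c a _ ha => rw [smul_eq_mul, mul_assoc]; exact mul_mem_sqSpan ha c

/-- Contraction of the right factor. -/
def rc (l : A →ₗ[k] k) : B →ₗ[k] A := (TensorProduct.rid k A).toLinearMap ∘ₗ l.lTensor A

theorem rc_tmul (l : A →ₗ[k] k) (a b : A) : rc l (a ⊗ₜ[k] b) = l b • a := by simp [rc]

theorem eq_of_rc {x y : B} (h : ∀ l : A →ₗ[k] k, rc l x = rc l y) : x = y := by
  refine (TensorProduct.comm k A A).injective (sub_eq_zero.1 (UnitsRos.eq_zero_of_contr fun l => ?_))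
  have e : ∀ z : B, UnitsRos.contr l (TensorProduct.comm k A A z) = rc l z := by
    intro z
    induction z with
    | zero => simp
    | tmul a b => simp [UnitsRos.contr_tmul, rc_tmul]
    | add p q hp hq => simp only [map_add, hp, hq]
  rw [map_sub, e, e, h, sub_self]

variable [IsAlgClosed k] [IsDomain A] [Algebra.FiniteType k A]

theorem exists_twist {I : Ideal A} (hI : Inv I) (hε : ∃ t ∈ I, eps (k := k) t ≠ 0)
    (hprim : ∀ K : Ideal B, Inv K → ∃ I₁ I₂ : Ideal A, Inv I₁ ∧ Inv I₂ ∧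
      Sim K (I₁.map (inL (k := k)) * I₂.map (inR (k := k)))) :
    ∃ x y : B, eps (k := k) (r₁ x) ≠ 0 ∧ eps (k := k) (r₁ y) ≠ 0 ∧ r₁ y = r₁ x ∧ r₂ y = r₂ x ∧
      Ideal.span {y} * I.map (cmu (k := k)) = Ideal.span {x} * sq (k := k) I := by
  haveI := GeomIrr.isDomain_tensor (k := k) A A
  let P := RingHom.ker (eps (k := k) (A := A))
  haveI : P.IsPrime := RingHom.ker_isPrime _
  let P₂ := RingHom.ker ((eps (k := k) (A := A)).comp r₁)
  haveI : P₂.IsPrime := RingHom.ker_isPrime _
  have hLinj : Function.Injective (inL (k := k) (A := A)) :=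
    Function.LeftInverse.injective (g := r₁) fun a => by simp
  have hRinj : Function.Injective (inR (k := k) (A := A)) :=
    Function.LeftInverse.injective (g := r₂) fun a => by simp
  have hcinj : Function.Injective (cmu (k := k) (A := A)) := Function.LeftInverse.injective r₁_cmu
  obtain ⟨J₁, J₂, hJ₁, hJ₂, hK⟩ := hprim (I.map (cmu (k := k)))
    (hI.map (cmu (k := k) (A := A)) fun r hr h => hr (hcinj (h.trans (map_zero _).symm)))
  obtain ⟨I₁, hI₁, hs₁, hn₁⟩ := exists_sim_not_le hJ₁ P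
  obtain ⟨I₂, hI₂, hs₂, hn₂⟩ := exists_sim_not_le hJ₂ P
  obtain ⟨i₁, hi₁, hi₁0⟩ := SetLike.not_le_iff_exists.1 hn₁
  obtain ⟨i₂, hi₂, hi₂0⟩ := SetLike.not_le_iff_exists.1 hn₂
  obtain ⟨t, ht, ht0⟩ := hε
  obtain ⟨x, y, hx, hy, e⟩ := exists_scalars
    (hK.trans ((hs₁.map (inL (k := k) (A := A)) hLinj).mul (hs₂.map (inR (k := k) (A := A)) hRinj))) P₂
    (fun h => ht0 (by simpa [P₂, r₁_cmu] using h (Ideal.mem_map_of_mem (cmu (k := k) (A := A)) ht)))
    (fun h => by
      have := h (Ideal.mul_mem_mul (Ideal.mem_map_of_mem (inL (k := k) (A := A)) hi₁)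
        (Ideal.mem_map_of_mem (inR (k := k) (A := A)) hi₂))
      simp only [P₂, RingHom.mem_ker, P] at this hi₁0 hi₂0
      simp [Algebra.TensorProduct.tmul_mul_tmul, hi₁0, hi₂0] at this)
  replace hx : eps (k := k) (r₁ x) ≠ 0 := hx
  replace hy : eps (k := k) (r₁ y) ≠ 0 := hy
  replace hi₁0 : eps (k := k) i₁ ≠ 0 := hi₁0
  replace hi₂0 : eps (k := k) i₂ ≠ 0 := hi₂0
  replace e : Ideal.span {y} * I.map (cmu (k := k)) =
    Ideal.span {x} * (I₁.map (inL (k := k)) * I₂.map (inR (k := k))) := e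
  -- the two restrictions
  have e₁ : Ideal.span {r₁ y} * I = Ideal.span {r₁ x} * I₁ := by
    have h := congrArg (Ideal.map (r₁ (k := k) (A := A))) e
    simp only [Ideal.map_mul, Ideal.map_span, Set.image_singleton, map_map_alg] at h
    rw [map_eq_self I (f := r₁.comp (cmu (k := k))) r₁_cmu,
      map_eq_self I₁ (f := r₁.comp (inL (k := k))) (fun a => by simp)] at h
    rw [h]
    refine congrArg (Ideal.span {r₁ x} * ·) ?_
    rw [show I₂.map (r₁.comp (inR (k := k))) = ⊤ from Ideal.eq_top_of_isUnit_mem _ (Ideal.mem_map_of_mem _ hi₂) (by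
      show IsUnit (r₁ (inR (k := k) i₂))
      simpa [Algebra.smul_def] using (isUnit_iff_ne_zero.2 hi₂0).map (algebraMap k A)), Ideal.mul_top]
  have e₂ : Ideal.span {r₂ y} * I = Ideal.span {r₂ x} * I₂ := by
    have h := congrArg (Ideal.map (r₂ (k := k) (A := A))) e
    simp only [Ideal.map_mul, Ideal.map_span, Set.image_singleton, map_map_alg] at h
    rw [map_eq_self I (f := r₂.comp (cmu (k := k))) r₂_cmu,
      map_eq_self I₂ (f := r₂.comp (inR (k := k))) (fun a => by simp)] at h
    rw [h]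
    refine congrArg (Ideal.span {r₂ x} * ·) ?_
    rw [show I₁.map (r₂.comp (inL (k := k))) = ⊤ from Ideal.eq_top_of_isUnit_mem _ (Ideal.mem_map_of_mem _ hi₁) (by
      show IsUnit (r₂ (inL (k := k) i₁))
      simpa [Algebra.smul_def] using (isUnit_iff_ne_zero.2 hi₁0).map (algebraMap k A)), Ideal.top_mul]
  have f₁ := congrArg (Ideal.map (inL (k := k) (A := A))) e₁
  have f₂ := congrArg (Ideal.map (inR (k := k) (A := A))) e₂
  simp only [Ideal.map_mul, Ideal.map_span, Set.image_singleton] at f₁ f₂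
  set cx := algebraMap k B (eps (k := k) (r₁ x))
  set cy := algebraMap k B (eps (k := k) (r₁ y))
  have hc : IsUnit cx ∧ IsUnit cy := ⟨(isUnit_iff_ne_zero.2 hx).map _, (isUnit_iff_ne_zero.2 hy).map _⟩
  refine ⟨x * inL (r₁ y) * inR (r₂ y) * cx, y * inL (r₁ x) * inR (r₂ x) * cy, ?_, ?_, ?_, ?_, ?_⟩
  · simp [cx, eps_r₂, hx, hy]
  · simp [cy, eps_r₂, hx, hy]
  · simp [cx, cy, Algebra.smul_def, eps_r₂]
    ring
  · simp [cx, cy, Algebra.smul_def, eps_r₂]
    ring
  · rw [Ideal.span_singleton_mul_right_unit hc.1, Ideal.span_singleton_mul_right_unit hc.2]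
    simp only [← Ideal.span_singleton_mul_span_singleton]
    calc Ideal.span {y} * Ideal.span {inL (r₁ x)} * Ideal.span {inR (r₂ x)} * I.map (cmu (k := k))
        = Ideal.span {inL (r₁ x)} * Ideal.span {inR (r₂ x)} * (Ideal.span {y} * I.map (cmu (k := k))) := by ring
      _ = Ideal.span {x} * ((Ideal.span {inL (r₁ x)} * I₁.map (inL (k := k))) *
          (Ideal.span {inR (r₂ x)} * I₂.map (inR (k := k)))) := by rw [e]; ring
      _ = _ := by rw [← f₁, ← f₂, sq]; ring

variable {I : Ideal A} {x y : A ⊗[k] A}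

theorem twist_coassoc (hI : Inv I) (hx : eps (k := k) (r₁ x) ≠ 0) (hy : eps (k := k) (r₁ y) ≠ 0)
    (h₁ : r₁ y = r₁ x) (h₂ : r₂ y = r₂ x)
    (e : Ideal.span {y} * I.map (cmu (k := k)) = Ideal.span {x} * sq (k := k) I) :
    d₁ y * e₁₂ y * (d₂ x * e₂₃ x) = d₁ x * e₁₂ x * (d₂ y * e₂₃ y) := by
  haveI := GeomIrr.isDomain_tensor (k := k) A A
  haveI := GeomIrr.isDomain_tensor (k := k) A B
  let W := I.map (d₁.comp (cmu (k := k)))
  let T := I.map (e₁₂.comp (inL (k := k))) * I.map (e₁₂.comp (inR (k := k))) * I.map (e₂₃.comp (inR (k := k)))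
  have mapeq : ∀ f : B →ₐ[k] C, Ideal.span {f y} * I.map (f.comp (cmu (k := k))) =
      Ideal.span {f x} * (I.map (f.comp (inL (k := k))) * I.map (f.comp (inR (k := k)))) := by
    intro f
    have h := congrArg (Ideal.map f) e
    simpa only [sq, Ideal.map_mul, Ideal.map_span, Set.image_singleton, map_map_alg] using h
  have c1 : d₁.comp (inL (k := k) (A := A)) = e₁₂.comp (cmu (k := k) (A := A)) := AlgHom.ext fun a => by
    show d₁ (a ⊗ₜ[k] (1 : A)) = e₁₂ (cmu a)
    rw [d₁_tmul, asc_eq]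
    simp [← Algebra.TensorProduct.one_def]
  have c2 : d₁.comp (inR (k := k) (A := A)) = e₂₃.comp (inR (k := k) (A := A)) := AlgHom.ext fun a => by
    show d₁ ((1 : A) ⊗ₜ[k] a) = _
    rw [d₁_tmul, map_one, asc_eq]
    simp
  have c3 : d₂.comp (inL (k := k) (A := A)) = e₁₂.comp (inL (k := k) (A := A)) := AlgHom.ext fun a => by
    show d₂ (a ⊗ₜ[k] (1 : A)) = e₁₂ (a ⊗ₜ[k] (1 : A))
    rw [d₂_tmul, map_one, e₁₂_tmul, Algebra.TensorProduct.one_def]
  have c4 : d₂.comp (inR (k := k) (A := A)) = e₂₃.comp (cmu (k := k) (A := A)) := AlgHom.ext fun a => rfl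
  have c5 : e₂₃.comp (inL (k := k) (A := A)) = e₁₂.comp (inR (k := k) (A := A)) := AlgHom.ext fun a => rfl
  have c6 : d₂.comp (cmu (k := k) (A := A)) = d₁.comp (cmu (k := k) (A := A)) := AlgHom.ext fun a => (d_cmu a).symm
  have E1 : Ideal.span {d₁ y * e₁₂ y} * W = Ideal.span {d₁ x * e₁₂ x} * T := by
    have g1 := mapeq d₁
    rw [c1, c2] at g1
    simp only [← Ideal.span_singleton_mul_span_singleton, W, T]
    calc _ = Ideal.span {e₁₂ y} * (Ideal.span {d₁ y} * I.map (d₁.comp (cmu (k := k)))) := by ring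
      _ = Ideal.span {d₁ x} * ((Ideal.span {e₁₂ y} * I.map (e₁₂.comp (cmu (k := k)))) *
          I.map (e₂₃.comp (inR (k := k)))) := by rw [g1]; ring
      _ = _ := by rw [mapeq e₁₂]; ring
  have E2 : Ideal.span {d₂ y * e₂₃ y} * W = Ideal.span {d₂ x * e₂₃ x} * T := by
    have g2 := mapeq d₂
    rw [c3, c4, c6] at g2
    have g3 := mapeq e₂₃
    rw [c5] at g3
    simp only [← Ideal.span_singleton_mul_span_singleton, W, T]
    calc _ = Ideal.span {e₂₃ y} * (Ideal.span {d₂ y} * I.map (d₁.comp (cmu (k := k)))) := by ring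
      _ = Ideal.span {d₂ x} * (I.map (e₁₂.comp (inL (k := k))) *
          (Ideal.span {e₂₃ y} * I.map (e₂₃.comp (cmu (k := k))))) := by rw [g2]; ring
      _ = _ := by rw [g3]; ring
  have hW : Inv W := hI.map (d₁.comp (cmu (k := k))) fun r hr h => hr (by
    have := congrArg r₁ (congrArg q₁ (show d₁ (cmu (k := k) r) = 0 from h))
    simpa [q₁_d₁, r₁_cmu] using this)
  have hspan : Ideal.span {d₁ y * e₁₂ y * (d₂ x * e₂₃ x)} = Ideal.span {d₁ x * e₁₂ x * (d₂ y * e₂₃ y)} := by
    refine hW.span_cancel ?_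
    simp only [← Ideal.span_singleton_mul_span_singleton] at E1 E2 ⊢
    calc _ = Ideal.span {d₂ x} * Ideal.span {e₂₃ x} * (Ideal.span {d₁ y} * Ideal.span {e₁₂ y} * W) := by ring
      _ = Ideal.span {d₁ x} * Ideal.span {e₁₂ x} * (Ideal.span {d₂ x} * Ideal.span {e₂₃ x} * T) := by rw [E1]; ring
      _ = _ := by rw [← E2]; ring
  obtain ⟨w, hw⟩ := Ideal.span_singleton_eq_span_singleton.1 hspan
  have hx0 : x ≠ 0 := fun h => hx (by simp [h])
  have hy0 : y ≠ 0 := fun h => hy (by simp [h])
  have hcinj : Function.Injective (cmu (k := k) (A := A)) := Function.LeftInverse.injective r₁_cmu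
  have hLinj : Function.Injective (inL (k := k) (A := A)) :=
    Function.LeftInverse.injective (g := r₁) fun a => by simp
  have hRinj : Function.Injective (inR (k := k) (A := A)) :=
    Function.LeftInverse.injective (g := r₂) fun a => by simp
  have hx1 : r₁ x ≠ 0 := fun h => hx (by simp [h])
  have hx2 : r₂ x ≠ 0 := fun h => hx (by rw [← eps_r₂]; simp [h])
  have w1 : q₁ (w : C) = 1 := by
    have h := congrArg q₁ hw
    simp only [map_mul, q₁_d₁, q₁_d₂, q₁_e₁₂, q₁_e₂₃, h₂] at h
    refine mul_left_cancel₀ (a := y * inL (r₂ x) * (cmu (r₂ x) * x)) ?_ ?_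
    · exact mul_ne_zero (mul_ne_zero hy0 ((map_ne_zero_iff _ hLinj).2 hx2))
        (mul_ne_zero ((map_ne_zero_iff _ hcinj).2 hx2) hx0)
    · linear_combination h
  have w3 : q₃ (w : C) = 1 := by
    have h := congrArg q₃ hw
    simp only [map_mul, q₃_d₁, q₃_d₂, q₃_e₁₂, q₃_e₂₃, h₁] at h
    refine mul_left_cancel₀ (a := cmu (r₁ x) * y * (x * inR (r₁ x))) ?_ ?_
    · exact mul_ne_zero (mul_ne_zero ((map_ne_zero_iff _ hcinj).2 hx1) hy0)
        (mul_ne_zero hx0 ((map_ne_zero_iff _ hRinj).2 hx1))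
    · linear_combination h
  haveI : Algebra.FiniteType k B := Algebra.FiniteType.trans (S := A) inferInstance inferInstance
  obtain ⟨u, v, -, -, huv⟩ := UnitsRos.exists_eq_tmul (k := k) (A := A) (Units.isUnit w)
  rw [huv, q₁_tmul] at w1
  have hεu : eps (k := k) u ≠ 0 := fun h => by simp [h] at w1
  have hv : v = (eps (k := k) u)⁻¹ • (1 : B) := by rw [← w1, smul_smul, inv_mul_cancel₀ hεu, one_smul]
  have hw1 : (w : C) = inL₃ ((eps (k := k) u)⁻¹ • u) := by
    rw [huv, hv, TensorProduct.tmul_smul, TensorProduct.smul_tmul']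
    rfl
  have hw2 : (eps (k := k) u)⁻¹ • u = 1 := hLinj (by
    rw [map_one, ← w3, hw1]
    show _ = _ ⊗ₜ[k] r₁ (1 : B)
    rw [map_one]
    rfl)
  rw [hw1, hw2, map_one, mul_one] at hw
  exact hw

/-- The semilinear functional of an invertible ideal at a prime. -/
theorem exists_functional {J : Ideal A} {z : A} (hz : z ≠ 0) (eJ : I * J = Ideal.span {z}) (m : Ideal A) [m.IsPrime] :
    ∃ j ∈ J, ∃ L : A →ₗ[k] A, (∀ t ∈ I, z * L t = j * t) ∧ (∀ (a : A), ∀ t ∈ I, L (a * t) = a * L t) ∧
      ∃ π ∈ I, L π ∉ m := by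
  obtain ⟨π, hπ, j, hj, c, hc, hπj⟩ := Inv.exists_local (mem_nonZeroDivisors_of_ne_zero hz) eJ m
  obtain ⟨L, hL⟩ := exists_linear (k := k) hz (I.restrictScalars k) (LinearMap.mulLeft k j) fun t ht => by
    obtain ⟨d, hd⟩ := Ideal.mem_span_singleton.1 (eJ ▸ Ideal.mul_mem_mul ht hj)
    exact ⟨d, by rw [LinearMap.mulLeft_apply, mul_comm j, hd]⟩
  refine ⟨j, hj, L, hL, fun a t ht => mul_left_cancel₀ hz ?_, π, hπ, ?_⟩
  · have h1 : z * L (a * t) = j * (a * t) := hL _ (I.mul_mem_left a ht)
    have h2 : z * L t = j * t := hL _ ht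
    linear_combination h1 - a * h2
  · rw [show L π = c from mul_left_cancel₀ hz (by rw [← hπj, mul_comm π]; exact hL π hπ)]
    exact hc

set_option maxHeartbeats 1000000 in
/-- A primitive invertible ideal has a principal power. -/
theorem exists_pow_eq_span {J : Ideal A} {z : A} (hz : z ≠ 0) (eJ : I * J = Ideal.span {z})
    (hε : ∃ t ∈ I, eps (k := k) t ≠ 0)
    (hx : eps (k := k) (r₁ x) ≠ 0) (hy : eps (k := k) (r₁ y) ≠ 0) (h₁ : r₁ y = r₁ x) (h₂ : r₂ y = r₂ x)
    (e : Ideal.span {y} * I.map (cmu (k := k)) = Ideal.span {x} * sq (k := k) I) :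
    ∃ n d, 1 ≤ n ∧ d ≠ 0 ∧ I ^ n = Ideal.span {d} := by
  classical
  haveI := GeomIrr.isDomain_tensor (k := k) A A
  haveI := GeomIrr.isDomain_tensor (k := k) A B
  have hI : Inv I := ⟨J, z, hz, eJ⟩
  have hw := twist_coassoc hI hx hy h₁ h₂ e
  have hx0 : x ≠ 0 := fun h => hx (by simp [h])
  have hy0 : y ≠ 0 := fun h => hy (by simp [h])
  have hdiv : ∀ t ∈ I, ∃ d ∈ sq (k := k) I, x * d = y * cmu (k := k) t := fun t ht =>
    Ideal.mem_span_singleton_mul.1 (e ▸ Ideal.mul_mem_mul (Ideal.mem_span_singleton_self y)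
      (Ideal.mem_map_of_mem (cmu (k := k)) ht))
  obtain ⟨D, hD'⟩ := exists_linear (k := k) hx0 (I.restrictScalars k)
    ((LinearMap.mulLeft k y).comp (cmu (k := k) (A := A)).toLinearMap) fun t ht => by
      obtain ⟨d, -, hd⟩ := hdiv t ht
      exact ⟨d, hd⟩
  have hD : ∀ t ∈ I, x * D t = y * cmu (k := k) t := hD'
  have hDsq : ∀ t ∈ I, D t ∈ sq (k := k) I := fun t ht => by
    obtain ⟨d, hd, hd'⟩ := hdiv t ht
    rwa [mul_left_cancel₀ hx0 ((hD t ht).trans hd'.symm)]
  have hD1 : ∀ t ∈ I, r₁ (D t) = t := fun t ht => by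
    have h := congrArg r₁ (hD t ht)
    rw [map_mul, map_mul, r₁_cmu, h₁] at h
    exact mul_left_cancel₀ (fun h0 => hx (by simp [h0])) h
  have hD2 : ∀ t ∈ I, r₂ (D t) = t := fun t ht => by
    have h := congrArg r₂ (hD t ht)
    rw [map_mul, map_mul, r₂_cmu, h₂] at h
    exact mul_left_cancel₀ (fun h0 => hx (by rw [← eps_r₂]; simp [h0])) h
  -- coassociativity
  let P₁ : B →ₗ[k] C := (TensorProduct.assoc k A A A).toLinearMap ∘ₗ D.rTensor A
  let P₂ : B →ₗ[k] C := D.lTensor A
  have hP₁ : ∀ w ∈ sq (k := k) I, e₁₂ x * P₁ w = e₁₂ y * d₁ w := by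
    intro w hw'
    refine Submodule.span_induction ?_ ?_ ?_ ?_ (mem_sqSpan hw')
    · rintro _ ⟨i, hi, j, -, rfl⟩
      show e₁₂ x * asc (D i ⊗ₜ[k] j) = e₁₂ y * d₁ (i ⊗ₜ[k] j)
      rw [d₁_tmul, asc_eq, asc_eq, ← mul_assoc, ← mul_assoc, ← map_mul, ← map_mul, hD i hi]
    · simp
    · intro a b _ _ ha hb; simp only [map_add, mul_add, ha, hb]
    · intro c a _ ha; simp only [map_smul, mul_smul_comm, ha]
  have hP₂ : ∀ w ∈ sq (k := k) I, e₂₃ x * P₂ w = e₂₃ y * d₂ w := by
    intro w hw'
    refine Submodule.span_induction ?_ ?_ ?_ ?_ (mem_sqSpan hw')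
    · rintro _ ⟨i, -, j, hj, rfl⟩
      show e₂₃ x * (i ⊗ₜ[k] D j) = e₂₃ y * d₂ (i ⊗ₜ[k] j)
      rw [d₂_tmul, e₂₃_apply, e₂₃_apply, Algebra.TensorProduct.tmul_mul_tmul, Algebra.TensorProduct.tmul_mul_tmul,
        hD j hj]
    · simp
    · intro a b _ _ ha hb; simp only [map_add, mul_add, ha, hb]
    · intro c a _ ha; simp only [map_smul, mul_smul_comm, ha]
  have hne : d₁ x * e₁₂ x * (d₂ x * e₂₃ x) ≠ 0 := by
    refine mul_ne_zero (mul_ne_zero ?_ ?_) (mul_ne_zero ?_ ?_) <;> intro h0
    · exact hx0 (by simpa [q₁_d₁] using congrArg q₁ h0)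
    · exact hx0 (by simpa [q₃_e₁₂] using congrArg q₃ h0)
    · exact hx0 (by simpa [q₃_d₂] using congrArg q₃ h0)
    · exact hx0 (by simpa [q₁_e₂₃] using congrArg q₁ h0)
  have hcoassoc : ∀ t ∈ I, P₁ (D t) = P₂ (D t) := fun t ht => mul_left_cancel₀ hne (by
    have a1 := hP₁ _ (hDsq t ht)
    have a2 := hP₂ _ (hDsq t ht)
    have b1 := congrArg d₁ (hD t ht)
    have b2 := congrArg d₂ (hD t ht)
    rw [map_mul, map_mul] at b1 b2
    rw [← d_cmu] at b2
    linear_combination (d₁ x * (d₂ x * e₂₃ x)) * a1 - (d₁ x * e₁₂ x * d₂ x) * a2 +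
      (e₁₂ y * (d₂ x * e₂₃ x)) * b1 - (d₁ x * e₁₂ x * e₂₃ y) * b2 + d₁ (cmu t) * hw)
  -- a finite coideal containing generators
  obtain ⟨T, hT⟩ := IsNoetherian.noetherian (self := (Algebra.FiniteType.isNoetherianRing k A)) I
  let gens : Set A := ⋃ s ∈ (T : Set A), Set.range fun l : A →ₗ[k] k => rc l (D s)
  let V : Submodule k A := Submodule.span k gens
  haveI : FiniteDimensional k V := by
    choose F hF using fun s : A => TensorProduct.exists_finset (R := k) (D s)
    let W : Submodule k A := Submodule.span k (⋃ s ∈ (T : Set A), (fun p : A × A => p.1) '' (F s : Set (A × A)))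
    haveI : FiniteDimensional k W :=
      FiniteDimensional.span_of_finite k (T.finite_toSet.biUnion fun s _ => (F s).finite_toSet.image _)
    refine Submodule.finiteDimensional_of_le (S₂ := W) (Submodule.span_le.2 ?_)
    intro a ha
    obtain ⟨s, hs, l, rfl⟩ := Set.mem_iUnion₂.1 ha
    simp only [SetLike.mem_coe, hF s, map_sum, rc_tmul]
    exact sum_mem fun p hp => W.smul_mem _ (Submodule.subset_span (Set.mem_biUnion hs ⟨p, hp, rfl⟩))
  have hTI : ∀ s ∈ T, s ∈ I := fun s hs => hT ▸ Submodule.subset_span hs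
  have hrcI : ∀ (l : A →ₗ[k] k), ∀ w ∈ sq (k := k) I, rc l w ∈ I := fun l w hw' => by
    refine Submodule.span_induction ?_ ?_ ?_ ?_ (mem_sqSpan hw')
    · rintro _ ⟨i, hi, j, -, rfl⟩
      rw [rc_tmul]
      exact Submodule.smul_of_tower_mem I _ hi
    · simp
    · intro a b _ _ ha hb; rw [map_add]; exact add_mem ha hb
    · intro c a _ ha; rw [map_smul]; exact Submodule.smul_of_tower_mem I c ha
  have hVI : ∀ v ∈ V, v ∈ I := fun v hv => by
    induction hv using Submodule.span_induction with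
    | mem a ha =>
      obtain ⟨s, hs, l, rfl⟩ := Set.mem_iUnion₂.1 ha
      exact hrcI l _ (hDsq s (hTI s hs))
    | zero => exact zero_mem I
    | add a b _ _ ha hb => exact add_mem ha hb
    | smul c a _ ha => exact Submodule.smul_of_tower_mem I c ha
  have hTV : ∀ s ∈ T, s ∈ V := fun s hs => by
    refine Submodule.subset_span (Set.mem_biUnion hs ⟨(eps (k := k)).toLinearMap, ?_⟩)
    conv_rhs => rw [← hD1 s (hTI s hs)]
    induction D s with
    | zero => simp
    | tmul a b => simp [rc_tmul]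
    | add p q hp hq => simp only [map_add] at hp hq ⊢; rw [hp, hq]
  let lm : (A →ₗ[k] k) → (A →ₗ[k] k) → (B →ₗ[k] k) := fun l m =>
    (TensorProduct.lid k k).toLinearMap ∘ₗ TensorProduct.map l m
  let R₃ : (B →ₗ[k] k) → (C →ₗ[k] A) := fun L => (TensorProduct.rid k A).toLinearMap ∘ₗ L.lTensor A
  have hstab : ∀ (l : A →ₗ[k] k), ∀ v ∈ V, rc l (D v) ∈ V := fun l v hv => by
    induction hv using Submodule.span_induction with
    | mem a ha =>
      obtain ⟨s, hs, m, rfl⟩ := Set.mem_iUnion₂.1 ha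
      refine Submodule.subset_span (Set.mem_biUnion hs ⟨lm l m ∘ₗ D, ?_⟩)
      have g1 : ∀ w : B, R₃ (lm l m) (P₁ w) = rc l (D (rc m w)) := by
        intro w
        induction w with
        | zero => simp
        | tmul a b =>
          show R₃ (lm l m) (asc (D a ⊗ₜ[k] b)) = _
          rw [rc_tmul, map_smul, map_smul]
          induction D a with
          | zero => simp
          | tmul c d => simp [R₃, lm, rc_tmul, smul_smul, mul_comm]
          | add p q hp hq => simp only [TensorProduct.add_tmul, map_add, smul_add, hp, hq]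
        | add p q hp hq => simp only [map_add, hp, hq]
      have g2 : ∀ w : B, R₃ (lm l m) (P₂ w) = rc (lm l m ∘ₗ D) w := by
        intro w
        induction w with
        | zero => simp
        | tmul a b => simp [R₃, P₂, rc_tmul]
        | add p q hp hq => simp only [map_add, hp, hq]
      show rc (lm l m ∘ₗ D) (D s) = rc l (D (rc m (D s)))
      rw [← g1, ← g2, hcoassoc s (hTI s hs)]
    | zero => simp
    | add a b _ _ ha hb => simp only [map_add]; exact add_mem ha hb
    | smul c a _ ha => simp only [map_smul]; exact V.smul_mem c ha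
  let bV := Module.finBasis k V
  choose φ hφ using fun i => (bV.coord i).exists_extend
  let v : Fin (Module.finrank k V) → A := fun i => (bV i : A)
  have hvV : ∀ i, v i ∈ V := fun i => (bV i).2
  have hφv : ∀ i l, φ i (v l) = if l = i then 1 else 0 := fun i l => by
    refine (LinearMap.congr_fun (hφ i) (bV l)).trans ?_
    rw [Module.Basis.coord_apply, Module.Basis.repr_self, Finsupp.single_apply]
  have hsum : ∀ w ∈ V, ∑ i, φ i w • v i = w := fun w hw' => by
    have h := congrArg Subtype.val (bV.sum_repr ⟨w, hw'⟩)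
    rw [Submodule.coe_sum] at h
    refine Eq.trans (Finset.sum_congr rfl fun i _ => ?_) h
    rw [Submodule.coe_smul, show φ i w = bV.repr ⟨w, hw'⟩ i from LinearMap.congr_fun (hφ i) ⟨w, hw'⟩]
  obtain ⟨c, hc⟩ : ∃ c : Matrix (Fin (Module.finrank k V)) (Fin (Module.finrank k V)) A,
      ∀ i j, c i j = UnitsRos.contr (φ i) (D (v j)) :=
    ⟨Matrix.of fun i j => UnitsRos.contr (φ i) (D (v j)), fun _ _ => rfl⟩
  have hDv : ∀ j, D (v j) = ∑ i, v i ⊗ₜ[k] c i j := fun j => eq_of_rc fun l => by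
    rw [← hsum _ (hstab l _ (hvV j)), map_sum]
    refine Finset.sum_congr rfl fun i _ => ?_
    rw [rc_tmul]
    congr 1
    rw [hc]
    show φ i (rc l (D (v j))) = l (UnitsRos.contr (φ i) (D (v j)))
    induction D (v j) with
    | zero => simp
    | tmul a b => simp [rc_tmul, UnitsRos.contr_tmul, mul_comm]
    | add p q hp hq => simp only [map_add, hp, hq]
  have hcI : ∀ i j, c i j ∈ I := fun i j => by
    rw [hc]
    refine Submodule.span_induction ?_ ?_ ?_ ?_ (mem_sqSpan (hDsq _ (hVI _ (hvV j))))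
    · rintro _ ⟨a, -, b, hb, rfl⟩
      rw [UnitsRos.contr_tmul]
      exact Submodule.smul_of_tower_mem I _ hb
    · simp
    · intro a b _ _ ha hb; rw [map_add]; exact add_mem ha hb
    · intro r a _ ha; rw [map_smul]; exact Submodule.smul_of_tower_mem I r ha
  have hcε : ∀ i j, eps (k := k) (c i j) = if j = i then 1 else 0 := fun i j => by
    have h := congrArg (φ i) (hD1 _ (hVI _ (hvV j)))
    rw [hDv, map_sum, map_sum] at h
    simpa [hφv, mul_comm] using h
  have hDc : ∀ i j, D (c i j) = ∑ l, c i l ⊗ₜ[k] c l j := fun i j => by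
    have h := congrArg (UnitsRos.contr (φ i) : C →ₗ[k] B) (hcoassoc _ (hVI _ (hvV j)))
    rw [hDv, map_sum, map_sum, map_sum, map_sum] at h
    have hP : ∀ l, UnitsRos.contr (φ i) (P₂ (v l ⊗ₜ[k] c l j)) = (if l = i then (1 : k) else 0) • D (c l j) := fun l => by
      rw [show P₂ (v l ⊗ₜ[k] c l j) = v l ⊗ₜ[k] D (c l j) from rfl, UnitsRos.contr_tmul, hφv]
    simp only [hP] at h
    rw [show (∑ l, (if l = i then (1 : k) else 0) • D (c l j)) = D (c i j) by simp] at h
    rw [← h]
    refine Finset.sum_congr rfl fun l _ => ?_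
    show UnitsRos.contr (φ i) (asc (D (v l) ⊗ₜ[k] c l j)) = _
    rw [hDv, TensorProduct.sum_tmul, map_sum, map_sum, Finset.sum_eq_single i (fun a _ ha => by
      simp [UnitsRos.contr_tmul, hφv, ha]) (by simp)]
    simp [UnitsRos.contr_tmul, hφv]
  -- invertibility at the points
  have hfun : ∀ g : A →ₐ[k] k, ∃ j ∈ J, ∃ L : A →ₗ[k] A, (∀ t ∈ I, z * L t = j * t) ∧
      (∀ (a : A), ∀ t ∈ I, L (a * t) = a * L t) ∧ ∃ π ∈ I, g (L π) ≠ 0 := fun g => by
    haveI : (RingHom.ker g).IsPrime := RingHom.ker_isPrime g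
    exact exists_functional hz eJ (RingHom.ker g)
  have hgen : sq (k := k) I ≤ Ideal.span (D '' (I : Set A)) := by
    refine (Ideal.span_singleton_mul_right_mono hx0).1 (e ▸ Ideal.span_singleton_mul_le_iff.2 fun w hw' => ?_)
    induction hw' using Submodule.span_induction with
    | mem a ha =>
      obtain ⟨t, ht, rfl⟩ := ha
      show y * cmu (k := k) t ∈ _
      rw [← hD t ht]
      exact Ideal.mul_mem_mul (Ideal.mem_span_singleton_self x) (Ideal.subset_span ⟨t, ht, rfl⟩)
    | zero => simp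
    | add a b _ _ ha hb => rw [mul_add]; exact add_mem ha hb
    | smul r a _ ha => rw [smul_eq_mul, mul_left_comm]; exact Ideal.mul_mem_left _ r ha
  have hdet : ∀ g : A →ₐ[k] k, ∃ j ∈ J, ∃ L : A →ₗ[k] A, (∀ t ∈ I, z * L t = j * t) ∧
      g ((c.map L).det) ≠ 0 := fun g => by
    let h : A →ₐ[k] k := g.comp (HopfAlgebra.antipodeAlgHom k A)
    obtain ⟨j, hj, L, hL, hLa, π, hπ, hgπ⟩ := hfun g
    obtain ⟨-, -, M, -, hMa, ρ, hρ, hhρ⟩ := hfun h
    refine ⟨j, hj, L, hL, ?_⟩
    let χ : B →ₐ[k] k := Algebra.TensorProduct.lift g h fun _ _ => .all _ _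
    let ψ : B →ₗ[k] k := (TensorProduct.lid k k).toLinearMap ∘ₗ
      TensorProduct.map (g.toLinearMap ∘ₗ L) (h.toLinearMap ∘ₗ M)
    have hψ : ∀ b : B, ∀ w ∈ sq (k := k) I, ψ (b * w) = χ b * ψ w := fun b w hw' => by
      refine Submodule.span_induction ?_ ?_ ?_ ?_ (mem_sqSpan hw')
      · rintro _ ⟨i, hi, i', hi', rfl⟩
        induction b with
        | zero => simp
        | tmul a a' =>
          rw [Algebra.TensorProduct.tmul_mul_tmul]
          simp [ψ, χ, hLa a i hi, hMa a' i' hi']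
          ring
        | add p q hp hq => simp only [add_mul, map_add, hp, hq]
      · simp
      · intro a a' _ _ ha hb; simp only [mul_add, map_add, ha, hb]
      · intro r a _ ha; simp only [mul_smul_comm, map_smul, ha, smul_eq_mul]; ring
    have hχ : ∀ a : A, χ (cmu (k := k) a) = eps (k := k) a := fun a => by
      have h1 : ∀ w : B, χ w = g (LinearMap.mul' k A ((HopfAlgebra.antipode k).lTensor A w)) := by
        intro w
        induction w with
        | zero => simp
        | tmul p q => simp [χ, h]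
        | add p q hp hq => simp only [map_add, hp, hq]
      rw [h1]
      refine (congrArg g (HopfAlgebra.mul_antipode_lTensor_comul_apply a)).trans ?_
      exact g.commutes _
    let θ : A →ₗ[k] k := ψ ∘ₗ D
    have hθ : ∀ (a : A), ∀ t ∈ I, θ (a * t) = eps (k := k) a * θ t := fun a t ht => by
      have h1 : D (a * t) = cmu (k := k) a * D t := mul_left_cancel₀ hx0 (by
        rw [hD _ (I.mul_mem_left a ht), mul_left_comm x, hD t ht, map_mul, mul_left_comm])
      show ψ (D (a * t)) = _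
      rw [h1, hψ _ _ (hDsq t ht), hχ]
      rfl
    obtain ⟨t₀, ht₀, ht₀ε⟩ := hε
    have hθt : ∀ t ∈ I, θ t = θ t₀ / eps (k := k) t₀ * eps (k := k) t := fun t ht => by
      have h1 := hθ t₀ t ht
      rw [mul_comm t₀, hθ t t₀ ht₀] at h1
      field_simp
      linear_combination -h1
    have hθ0 : θ t₀ ≠ 0 := by
      intro h0
      have hall : ∀ w ∈ Ideal.span (D '' (I : Set A)), w ∈ sq (k := k) I ∧ ψ w = 0 := fun w hw' => by
        induction hw' using Submodule.span_induction with
        | mem a ha =>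
          obtain ⟨t, ht, rfl⟩ := ha
          exact ⟨hDsq t ht, by have := hθt t ht; rw [h0, zero_div, zero_mul] at this; exact this⟩
        | zero => simp
        | add a b _ _ ha hb => exact ⟨add_mem ha.1 hb.1, by rw [map_add, ha.2, hb.2, add_zero]⟩
        | smul r a _ ha => exact ⟨Ideal.mul_mem_left _ r ha.1, by rw [smul_eq_mul, hψ r a ha.1, ha.2, mul_zero]⟩
      have := (hall _ (hgen (tmul_mem_sq hπ hρ))).2
      simp [ψ, hgπ, hhρ] at this
    have hprod : (c.map fun a => g (L a)) * (c.map fun a => h (M a)) =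
        (θ t₀ / eps (k := k) t₀) • (1 : Matrix (Fin (Module.finrank k V)) (Fin (Module.finrank k V)) k) := by
      ext i l
      rw [Matrix.mul_apply, Matrix.smul_apply, Matrix.one_apply, smul_eq_mul]
      have h1 := hθt _ (hcI i l)
      rw [hcε] at h1
      simp only [eq_comm (a := i) (b := l)]
      refine Eq.trans ?_ h1
      show _ = ψ (D (c i l))
      rw [hDc, map_sum]
      simp [ψ]
    have := congrArg Matrix.det hprod
    rw [Matrix.det_mul, Matrix.det_smul, Matrix.det_one, mul_one] at this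
    have hg : g ((c.map L).det) = (c.map fun a => g (L a)).det := by
      rw [AlgHom.map_det, AlgHom.mapMatrix_apply, Matrix.map_map]
      rfl
    rw [hg]
    exact left_ne_zero_of_mul (this ▸ pow_ne_zero _ (div_ne_zero hθ0 ht₀ε))
  -- conclusion
  have hN : 1 ≤ (Module.finrank k V) := by
    by_contra h0
    have hV : V = ⊥ := Submodule.finrank_eq_zero.1 (by omega : Module.finrank k V = 0)
    refine hI.ne_bot ?_
    rw [← hT, Submodule.span_eq_bot]
    intro s hs
    simpa [hV] using hTV s hs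
  have hdI : c.det ∈ I ^ (Module.finrank k V) := by
    rw [Matrix.det_apply]
    refine sum_mem fun σ _ => ?_
    rw [Units.smul_def]
    refine zsmul_mem ?_ _
    have := Ideal.prod_mem_prod (s := Finset.univ) (I := fun _ : Fin (Module.finrank k V) => I) fun i _ => hcI (σ i) i
    simpa using this
  have hle : Ideal.span {z ^ (Module.finrank k V)} ≤ Ideal.span {c.det} * J ^ (Module.finrank k V) := by
    rw [Ideal.span_singleton_le_iff_mem]
    suffices hd : divEl (z ^ (Module.finrank k V)) (Ideal.span {c.det} * J ^ (Module.finrank k V)) = ⊤ by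
      simpa [mem_divEl] using (Ideal.eq_top_iff_one _).1 hd
    by_contra hne
    obtain ⟨m, hm, hle⟩ := Ideal.exists_le_maximal _ hne
    obtain ⟨g, hg⟩ := exists_point_of_isMaximal (k := k) m
    obtain ⟨j, hj, L, hL, hL0⟩ := hdet g
    refine hL0 ((hg _).1 (hle ?_))
    have : z • c.map L = j • c := by
      ext i l
      exact hL _ (hcI i l)
    have := congrArg Matrix.det this
    rw [Matrix.det_smul, Matrix.det_smul, Fintype.card_fin] at this
    rw [mem_divEl, this, mul_comm (j ^ _)]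
    exact Ideal.mul_mem_mul (Ideal.mem_span_singleton_self _) (Ideal.pow_mem_pow hj (Module.finrank k V))
  have hpow : I ^ (Module.finrank k V) * J ^ (Module.finrank k V) = Ideal.span {z ^ (Module.finrank k V)} := by
    rw [← mul_pow, eJ, Ideal.span_singleton_pow]
  have hJ : Inv (J ^ (Module.finrank k V)) := Inv.of_mul (J := I ^ (Module.finrank k V)) (by rw [mul_comm, hpow]; exact inv_span (pow_ne_zero _ hz))
  refine ⟨(Module.finrank k V), c.det, hN, ?_, hJ.cancel ?_⟩
  · intro h0
    rw [h0, Ideal.span_singleton_eq_bot.2 rfl, Ideal.bot_mul, le_bot_iff, Ideal.span_singleton_eq_bot] at hle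
    exact pow_ne_zero _ hz hle
  · rw [mul_comm, hpow, mul_comm]
    exact le_antisymm hle ((Ideal.mul_mono ((Ideal.span_singleton_le_iff_mem _).2 hdI) le_rfl).trans_eq hpow)

/-- Every invertible ideal of a connected affine group has a power similar to the unit ideal. -/
theorem exists_pow_sim {I : Ideal A} (hI : Inv I)
    (hprim : ∀ K : Ideal B, Inv K → ∃ I₁ I₂ : Ideal A, Inv I₁ ∧ Inv I₂ ∧
      Sim K (I₁.map (inL (k := k)) * I₂.map (inR (k := k)))) :
    ∃ n, 1 ≤ n ∧ Sim (I ^ n) ⊤ := by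
  haveI : (RingHom.ker (eps (k := k) (A := A))).IsPrime := RingHom.ker_isPrime _
  obtain ⟨I', hI', hs, hn⟩ := exists_sim_not_le hI (RingHom.ker (eps (k := k) (A := A)))
  obtain ⟨t, ht, ht0⟩ := SetLike.not_le_iff_exists.1 hn
  obtain ⟨x, y, hx, hy, h₁, h₂, e⟩ := exists_twist hI' ⟨t, ht, ht0⟩ hprim
  obtain ⟨J, z, hz, eJ⟩ := hI'
  obtain ⟨n, d, hn, hd, he⟩ := exists_pow_eq_span hz eJ ⟨t, ht, ht0⟩ hx hy h₁ h₂ e
  refine ⟨n, hn, Sim.trans ?_ (sim_span hd)⟩
  rw [← he]
  clear he hd hn
  induction n with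
  | zero => rw [pow_zero, pow_zero]; exact Sim.refl _
  | succ n ih => rw [pow_succ, pow_succ]; exact ih.mul hs

end Groth.Agent.PicFin14
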